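import Cfsg.Agent.SubnormalClass.Orbit
import Cfsg.Agent.OneClass.Basic
import Cfsg.Agent.PLocal.SubnormalJoin

/-!
A `p`-subgroup, `p` odd, generating a `p`-group with some conjugate by a member of every class of a
solvable group lies in `O_p`.
-/

set_option autoImplicit false

namespace CfsgLib.SubnClass

open Subgroup
open scoped Pointwise

universe u

variable {p : ℕ} [Fact p.Prime]

theorem le_pCore_of_classes (hp2 : p ≠ 2) (n : ℕ) :
    ∀ (G : Type u) [Group G] [Finite G], Nat.card G ≤ n → Group.IsSolvable G → ∀ A : Subgroup G,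
      IsPGroup p A → (∀ c : G, ∃ g : G, IsConj c g ∧
        IsPGroup p (A ⊔ A.map (MulAut.conj g).toMonoidHom : Subgroup G)) →
      A ≤ Cfsg.pCore p G := by
  induction n with
  | zero =>
    intro G _ _ hn
    have := Nat.card_pos (α := G)
    omega
  | succ n ih =>
    intro G _ _ hn hG A hA h
    haveI := hG
    -- images in proper quotients
    have himg : ∀ (N : Subgroup G) [N.Normal], N ≠ ⊥ →
        A.map (QuotientGroup.mk' N) ≤ Cfsg.pCore p (G ⧸ N) := by
      intro N _ hN
      refine ih (G ⧸ N) ?_ inferInstance _ (hA.map _) fun c => ?_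
      · have h2 : 1 < Nat.card N := (one_lt_card_iff_ne_bot N).2 hN
        have h3 := card_eq_card_quotient_mul_card_subgroup N
        have h4 := Nat.card_pos (α := G ⧸ N)
        nlinarith
      · obtain ⟨c, rfl⟩ := QuotientGroup.mk'_surjective N c
        obtain ⟨g, hcg, hg⟩ := h c
        refine ⟨QuotientGroup.mk' N g, (QuotientGroup.mk' N).map_isConj hcg, ?_⟩
        have := hg.map (QuotientGroup.mk' N)
        rw [Subgroup.map_sup, map_map] at this
        rw [map_map]
        have he : (MulAut.conj (QuotientGroup.mk' N g)).toMonoidHom.comp (QuotientGroup.mk' N) =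
            (QuotientGroup.mk' N).comp (MulAut.conj g).toMonoidHom := by
          ext x; simp
        rwa [he]
    by_cases hT : Cfsg.pCore p G = ⊥
    swap
    · have h1 := himg (Cfsg.pCore p G) hT
      rw [CfsgLib.OneClass.pCore_quotient_pCore, le_bot_iff, Subgroup.map_eq_bot_iff,
        QuotientGroup.ker_mk'] at h1
      exact h1
    by_contra hAT
    obtain ⟨a₀, ha₀, ha₀1⟩ : ∃ a ∈ A, a ≠ 1 := by
      by_contra hne
      push Not at hne
      exact hAT fun x hx => by rw [hne x hx]; exact one_mem _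
    -- an element of order `p`
    obtain ⟨a, haA, hap, ha1⟩ : ∃ a ∈ A, a ^ p = 1 ∧ a ≠ 1 := by
      obtain ⟨k, hk⟩ := IsPGroup.iff_orderOf.1 hA ⟨a₀, ha₀⟩
      rw [orderOf_mk] at hk
      obtain ⟨k, rfl⟩ : ∃ j, k = j + 1 := ⟨k - 1, by
        rcases k with _ | k
        · rw [pow_zero, orderOf_eq_one_iff] at hk; exact absurd hk ha₀1
        · omega⟩
      refine ⟨a₀ ^ p ^ k, pow_mem ha₀ _, ?_, fun he => ?_⟩
      · rw [← pow_mul, ← pow_succ, ← hk, pow_orderOf_eq_one]
      · have := orderOf_dvd_of_pow_eq_one he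
        rw [hk, Nat.pow_dvd_pow_iff_le_right (Fact.out : p.Prime).one_lt] at this
        omega
    have hGne : (⊤ : Subgroup G) ≠ ⊥ := fun he =>
      ha1 (mem_bot.1 (he ▸ mem_top a))
    obtain ⟨V, hVn, hV1, -, hVmin⟩ := CfsgLib.Solvable.exists_minimal_normal_le hGne
    haveI := hVn
    obtain ⟨hVc, r, hr, hVr, hVrg⟩ :=
      CfsgLib.Solvable.minimal_normal_elementary hV1 hVmin inferInstance
    haveI := hVc
    have hVcomm : ∀ x ∈ V, ∀ y ∈ V, x * y = y * x := fun x hx y hy =>
      congrArg Subtype.val (mul_comm' (⟨x, hx⟩ : V) ⟨y, hy⟩)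
    have hrp : r ≠ p := by
      rintro rfl
      exact hV1 (le_bot_iff.1 (hT ▸ CfsgLib.Solvable.le_pCore r hVn hVrg))
    have hcop : (Nat.card V).Coprime p := by
      haveI := Fact.mk hr
      obtain ⟨k, hk⟩ := IsPGroup.iff_card.1 hVrg
      rw [hk]
      exact ((Nat.coprime_primes hr Fact.out).2 hrp).pow_left k
    have hdisj : ∀ x ∈ V, ∀ (B : Subgroup G), IsPGroup p B → x ∈ B → x = 1 := by
      intro x hx B hB hxB
      obtain ⟨k, hk⟩ := IsPGroup.iff_orderOf.1 hB ⟨x, hxB⟩
      rw [orderOf_mk] at hk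
      have h1 : orderOf x ∣ Nat.card V := by
        simpa using orderOf_dvd_natCard (⟨x, hx⟩ : V)
      rw [← orderOf_eq_one_iff, hk]
      exact Nat.Coprime.eq_one_of_dvd ((hcop.pow_right k).symm) (hk ▸ h1)
    set M := (Cfsg.pCore p (G ⧸ V)).comap (QuotientGroup.mk' V) with hM
    haveI hMn : M.Normal := Normal.comap inferInstance _
    have hAM : A ≤ M := map_le_iff_le_comap.1 (himg V hV1)
    obtain ⟨P, hP⟩ := (IsPGroup.comap_subtype (K := M) hA).exists_le_sylow
    set Q := (P : Subgroup M).map M.subtype with hQ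
    have hQp : IsPGroup p Q := P.2.map _
    have hAQ : A ≤ Q := fun x hx => ⟨⟨x, hAM hx⟩, hP hx, rfl⟩
    set L := normalizer (Q : Set G) with hL
    -- `G = L V`
    have hLV : L ⊔ V = ⊤ := by
      refine eq_top_iff.2 (le_trans (Sylow.normalizer_sup_eq_top P).ge (sup_le le_sup_left ?_))
      intro x hx
      have hMmap : M.map (QuotientGroup.mk' V) = Cfsg.pCore p (G ⧸ V) :=
        map_comap_eq_self_of_surjective (QuotientGroup.mk'_surjective V) _
      -- the image of `Q` is the whole `p`-core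
      have hsurj : Function.Surjective
          ((QuotientGroup.mk' V).subgroupMap M) := (QuotientGroup.mk' V).subgroupMap_surjective M
      have htop : ((P : Subgroup M).map ((QuotientGroup.mk' V).subgroupMap M)) = ⊤ := by
        have hp' : IsPGroup p (M.map (QuotientGroup.mk' V)) :=
          hMmap ▸ CfsgLib.Solvable.isPGroup_pCore p
        exact ((P.mapSurjective hsurj).3 (hp'.to_subgroup ⊤) le_top).symm
      obtain ⟨y, hy, hyx⟩ := htop.ge (mem_top (⟨_, mem_map_of_mem _ hx⟩ : M.map (QuotientGroup.mk' V)))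
      have he : QuotientGroup.mk' V (y : G) = QuotientGroup.mk' V x := congrArg Subtype.val hyx
      obtain ⟨v, hv, rfl⟩ := (QuotientGroup.mk'_eq_mk' V).1 he
      exact mul_mem (mem_sup_left (le_normalizer ⟨y, hy, rfl⟩)) (mem_sup_right hv)
    have hnorm : ∀ (W : Subgroup G), W ≤ V → (∀ l ∈ L, ∀ w ∈ W, l * w * l⁻¹ ∈ W) → W.Normal := by
      intro W hW hL'
      refine ⟨fun w hw g => ?_⟩
      obtain ⟨l, hl, v, hv, rfl⟩ : g ∈ (L : Set G) * (V : Set G) := by
        rw [← mul_normal, hLV]; exact mem_top g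
      show l * v * w * (l * v)⁻¹ ∈ W
      rw [show l * v * w * (l * v)⁻¹ = l * (v * w * v⁻¹) * l⁻¹ by group,
        hVcomm v hv w (hW hw), mul_inv_cancel_right]
      exact hL' l hl w hw
    letI : CommGroup V := { (inferInstance : Group V) with mul_comm := fun a b => mul_comm' a b }
    letI act : DistribMulAction L (Additive V) :=
      { smul := fun l v => Additive.ofMul (⟨(l : G) * (Additive.toMul v : V) * (l : G)⁻¹,
          hVn.conj_mem _ (Additive.toMul v).2 l⟩ : V)
        one_smul := fun v => Additive.toMul.injective (Subtype.ext (by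
          show (1 : G) * _ * (1 : G)⁻¹ = _
          group))
        mul_smul := fun l m v => Additive.toMul.injective (Subtype.ext (by
          show (l : G) * m * _ * ((l : G) * m)⁻¹ = (l : G) * ((m : G) * _ * (m : G)⁻¹) * (l : G)⁻¹
          group))
        smul_zero := fun l => Additive.toMul.injective (Subtype.ext (by
          show (l : G) * 1 * (l : G)⁻¹ = 1
          group))
        smul_add := fun l u v => Additive.toMul.injective (Subtype.ext (by
          show (l : G) * ((Additive.toMul u : V) * (Additive.toMul v : V) : G) * (l : G)⁻¹ =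
            ((l : G) * (Additive.toMul u : V) * (l : G)⁻¹) *
              ((l : G) * (Additive.toMul v : V) * (l : G)⁻¹)
          group)) }
    have hsm : ∀ (l : L) (v : V), (((Additive.toMul (l • Additive.ofMul v) : V)) : G) =
        (l : G) * v * (l : G)⁻¹ := fun _ _ => rfl
    have haL : a ∈ L := le_normalizer (hAQ haA)
    -- `C_Q(V) = 1`
    have hfaith : ∀ x ∈ Q, (∀ v ∈ V, x * v = v * x) → x = 1 := by
      intro x hx hxV
      have hn' : (Q ⊓ centralizer (V : Set G)).Normal := by
        refine ⟨fun y hy g => ?_⟩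
        obtain ⟨l, hl, v, hv, rfl⟩ : g ∈ (L : Set G) * (V : Set G) := by
          rw [← mul_normal, hLV]; exact mem_top g
        have hvy : v * y * v⁻¹ = y := by rw [mem_centralizer_iff.1 hy.2 v hv, mul_inv_cancel_right]
        show l * v * y * (l * v)⁻¹ ∈ _
        rw [show l * v * y * (l * v)⁻¹ = l * (v * y * v⁻¹) * l⁻¹ by group, hvy]
        refine mem_inf.2 ⟨(mem_normalizer_iff.1 hl y).1 hy.1, mem_centralizer_iff.2 fun w hw => ?_⟩
        have h1 := mem_centralizer_iff.1 hy.2 _ (hVn.conj_mem w hw l⁻¹)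
        rw [inv_inv] at h1
        calc w * (l * y * l⁻¹) = l * ((l⁻¹ * w * l) * y) * l⁻¹ := by group
          _ = l * (y * (l⁻¹ * w * l)) * l⁻¹ := by rw [h1]
          _ = _ := by group
      have h2 := CfsgLib.Solvable.le_pCore p hn' (hQp.to_le inf_le_left)
      rw [hT, le_bot_iff] at h2
      exact mem_bot.1 (h2 ▸ mem_inf.2 ⟨hx, mem_centralizer_iff.2 fun v hv => (hxV v hv).symm⟩)
    haveI : (Q.subgroupOf L).Normal :=
      (normal_subgroupOf_iff_le_normalizer le_normalizer).2 le_rfl
    have hirrV : ∀ W : AddSubgroup (Additive V), (∀ l : L, ∀ v ∈ W, l • v ∈ W) → W = ⊥ ∨ W = ⊤ := by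
      intro W hW
      let W' : Subgroup G := (AddSubgroup.toSubgroup' W).map V.subtype
      have hW'n : W'.Normal := hnorm W' (map_subtype_le _) (by
        rintro l hl _ ⟨w, hw, rfl⟩
        exact ⟨_, hW ⟨l, hl⟩ (Additive.ofMul w) hw, hsm ⟨l, hl⟩ w⟩)
      rcases hVmin W' hW'n (map_subtype_le _) with h1 | h1
      · refine Or.inl ((AddSubgroup.eq_bot_iff_forall _).2 fun w hw => ?_)
        have h2 : ((Additive.toMul w : V) : G) ∈ W' := ⟨Additive.toMul w, hw, rfl⟩
        rw [h1, mem_bot] at h2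
        exact Additive.toMul.injective (Subtype.ext h2)
      · refine Or.inr ((AddSubgroup.eq_top_iff' _).2 fun w => ?_)
        obtain ⟨w', hw', he⟩ := h1.ge (Additive.toMul w).2
        rwa [show w' = Additive.toMul w from Subtype.ext he] at hw'
    have hmovV : ∃ v : Additive V, (⟨a, haL⟩ : L) • v ≠ v := by
      by_contra hall
      push Not at hall
      refine ha1 (hfaith a (hAQ haA) fun w hw => ?_)
      have h1 := congrArg (fun z : Additive V => ((Additive.toMul z : V) : G))
        (hall (Additive.ofMul ⟨w, hw⟩))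
      change a * w * a⁻¹ = w at h1
      exact mul_inv_eq_iff_eq_mul.1 h1
    obtain ⟨v, hv⟩ := exists_vector_avoiding (L := L) (V := Additive V) hp2
      (by rwa [Nat.card_congr Additive.toMul]) hirrV (Q.subgroupOf L) (IsPGroup.comap_subtype (K := L) hQp)
      ⟨a, haL⟩ (mem_subgroupOf.2 (hAQ haA)) (Subtype.ext hap) hmovV
    -- the class of `v`
    set v' : G := ((Additive.toMul v : V) : G) with hv'
    obtain ⟨g, hcg, hg⟩ := h v'
    obtain ⟨c, rfl⟩ := isConj_iff.1 hcg
    have hgV : c * v' * c⁻¹ ∈ V := hVn.conj_mem _ (Additive.toMul v).2 c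
    have hcomm : a * (c * v' * c⁻¹) = (c * v' * c⁻¹) * a := by
      set w := c * v' * c⁻¹
      have h1 : w * a * w⁻¹ * a⁻¹ = 1 := hdisj _
        (by
          rw [show w * a * w⁻¹ * a⁻¹ = w * (a * w⁻¹ * a⁻¹) by group]
          exact mul_mem hgV (hVn.conj_mem _ (inv_mem hgV) a)) _ hg
        (mul_mem (mem_sup_right ⟨a, haA, rfl⟩) (inv_mem (mem_sup_left haA)))
      rw [mul_inv_eq_one, mul_inv_eq_iff_eq_mul] at h1
      exact h1.symm
    obtain ⟨l, hl, u, hu, hlu⟩ : c ∈ (L : Set G) * (V : Set G) := by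
      rw [← mul_normal, hLV]; exact mem_top c
    have hw : c * v' * c⁻¹ = l * v' * l⁻¹ := by
      rw [← hlu, show l * u * v' * (l * u)⁻¹ = l * (u * v' * u⁻¹) * l⁻¹ by group,
        hVcomm u hu v' (Additive.toMul v).2, mul_inv_cancel_right]
    rw [hw] at hcomm
    refine hv ⟨l, hl⟩⁻¹ (Additive.toMul.injective (Subtype.ext ?_))
    show l⁻¹ * a * l⁻¹⁻¹ * v' * (l⁻¹ * a * l⁻¹⁻¹)⁻¹ = v'
    calc l⁻¹ * a * l⁻¹⁻¹ * v' * (l⁻¹ * a * l⁻¹⁻¹)⁻¹
        = l⁻¹ * (a * (l * v' * l⁻¹)) * a⁻¹ * l := by group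
      _ = l⁻¹ * ((l * v' * l⁻¹) * a) * a⁻¹ * l := by rw [hcomm]
      _ = v' := by group

end CfsgLib.SubnClass
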