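import Mathlib

/-!
Fixed points of elements of order dividing `p` on an abelian group of order prime to `p`, and vectors
with trivial stabiliser for groups of exponent `p` and class two.
-/

set_option autoImplicit false

namespace CfsgLib.SubnClass

open Subgroup
open scoped commutatorElement

variable {L V : Type*} [Group L] [AddCommGroup V] [DistribMulAction L V]

/-- The fixed points of a subgroup. -/
def fixSub (H : Subgroup L) : AddSubgroup V where
  carrier := {v | ∀ h ∈ H, h • v = v}
  zero_mem' := fun h _ => smul_zero h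
  add_mem' := fun hu hv h hh => by rw [smul_add, hu h hh, hv h hh]
  neg_mem' := fun hv h hh => by rw [smul_neg, hv h hh]

theorem mem_fixSub {H : Subgroup L} {v : V} : v ∈ fixSub H ↔ ∀ h ∈ H, h • v = v := Iff.rfl

theorem fixSub_anti {H K : Subgroup L} (h : H ≤ K) : (fixSub K : AddSubgroup V) ≤ fixSub H :=
  fun _ hv x hx => hv x (h hx)

theorem mem_fixSub_sup {H K : Subgroup L} {v : V} (hH : v ∈ fixSub H) (hK : v ∈ fixSub K) :
    v ∈ fixSub (H ⊔ K) := by
  have h : H ⊔ K ≤ MulAction.stabilizer L v := sup_le hH hK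
  exact fun x hx => h hx

theorem mem_fixSub_zpowers {g : L} {v : V} (h : g • v = v) : v ∈ fixSub (zpowers g) := by
  have h' : zpowers g ≤ MulAction.stabilizer L v := zpowers_le.2 h
  exact fun x hx => h' hx

theorem nsmul_cancel [Finite V] {n : ℕ} (h : (Nat.card V).Coprime n) {u v : V}
    (huv : n • u = n • v) : u = v := (nsmulCoprime h).injective huv

theorem mem_of_nsmul_mem [Finite V] {n : ℕ} (h : (Nat.card V).Coprime n) {W : AddSubgroup V}
    {v : V} (hv : n • v ∈ W) : v ∈ W := by
  have hW : (Nat.card W).Coprime n := h.coprime_dvd_left (AddSubgroup.card_addSubgroup_dvd_card W)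
  obtain ⟨w, hw⟩ := (nsmulCoprime hW).surjective ⟨n • v, hv⟩
  have := nsmul_cancel h (u := (w : V)) (v := v) (congrArg Subtype.val hw)
  exact this ▸ w.2

/-- Powers indexed by `ZMod p`. -/
def gp {p : ℕ} (g : L) (k : ZMod p) : L := g ^ k.val

variable {p : ℕ} [hp : Fact p.Prime]

theorem exists_nat_zpow {z : L} (hz : z ^ p = 1) (i : ℤ) : ∃ k : ℕ, z ^ k = z ^ i := by
  refine ⟨(i % p).toNat, ?_⟩
  rw [← zpow_natCast, Int.toNat_of_nonneg (Int.emod_nonneg _ (by exact_mod_cast hp.out.ne_zero))]
  conv_rhs => rw [← Int.emod_add_mul_ediv i p, zpow_add, zpow_mul, zpow_natCast, hz, one_zpow, mul_one]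

theorem gp_add {g : L} (hg : g ^ p = 1) (a b : ZMod p) : gp g (a + b) = gp g a * gp g b := by
  rw [gp, gp, gp, ← pow_add, ZMod.val_add, ← pow_eq_pow_mod _ hg]

theorem gp_mul {g : L} (hg : g ^ p = 1) (a b : ZMod p) : gp g (a * b) = gp g a ^ b.val := by
  rw [gp, gp, ← pow_mul, ZMod.val_mul, ← pow_eq_pow_mod _ hg]

theorem gp_zero {g : L} : gp g (0 : ZMod p) = 1 := by rw [gp, ZMod.val_zero, pow_zero]

theorem gp_one {g : L} : gp g (1 : ZMod p) = g := by rw [gp, ZMod.val_one, pow_one]

/-- The sum over the powers. -/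
noncomputable def powSum (p : ℕ) [Fact p.Prime] (g : L) : V →+ V :=
  ∑ k : ZMod p, DistribSMul.toAddMonoidHom V (gp g k)

theorem powSum_apply (g : L) (v : V) : powSum p g v = ∑ k : ZMod p, gp g k • v := by
  simp [powSum]

theorem smul_powSum {g : L} (hg : g ^ p = 1) (v : V) : g • powSum p g v = powSum p g v := by
  rw [powSum_apply, Finset.smul_sum]
  refine Fintype.sum_equiv (Equiv.addLeft (1 : ZMod p)) _ _ fun k => ?_
  rw [Equiv.coe_addLeft, gp_add hg, gp_one, mul_smul]

theorem powSum_of_fixed {g : L} {v : V} (h : g • v = v) : powSum p g v = p • v := by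
  have hk : ∀ k : ZMod p, gp g k • v = v := fun k =>
    mem_fixSub_zpowers h _ (pow_mem (mem_zpowers g) _)
  rw [powSum_apply, Finset.sum_congr rfl fun k _ => hk k, Finset.sum_const, Finset.card_univ,
    ZMod.card]

theorem smul_powSum_of_commute {g h : L} (hc : Commute h g) (v : V) :
    h • powSum p g v = powSum p g (h • v) := by
  rw [powSum_apply, powSum_apply, Finset.smul_sum]
  refine Finset.sum_congr rfl fun k _ => ?_
  rw [← mul_smul, ← mul_smul, gp, (hc.pow_right _).eq]

/-- A group of order `p²` has a nontrivial element with a nonzero fixed point. -/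
theorem eq_zero_of_fixFree [Finite V] (hcop : (Nat.card V).Coprime p) {g h : L}
    (hg : g ^ p = 1) (hh : h ^ p = 1) (hc : Commute g h) (W : AddSubgroup V)
    (hgW : ∀ w ∈ W, g • w ∈ W) (hhW : ∀ w ∈ W, h • w ∈ W)
    (h0 : ∀ w ∈ W, h • w = w → w = 0) (h1 : ∀ c : ZMod p, ∀ w ∈ W, (g * gp h c) • w = w → w = 0)
    {v : V} (hv : v ∈ W) : v = 0 := by
  have hpowW : ∀ (a : L), (∀ w ∈ W, a • w ∈ W) → ∀ (n : ℕ), ∀ w ∈ W, a ^ n • w ∈ W := by
    intro a ha n
    induction n with
    | zero => intro w hw; rwa [pow_zero, one_smul]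
    | succ n ih => intro w hw; rw [pow_succ, mul_smul]; exact ih _ (ha w hw)
  have hsum : ∀ a : L, a ^ p = 1 → (∀ w ∈ W, a • w ∈ W) → (∀ w ∈ W, a • w = w → w = 0) →
      ∀ u ∈ W, ∑ k : ZMod p, gp a k • u = 0 := by
    intro a ha haW ha0 u hu
    refine ha0 _ (W.sum_mem fun k _ => hpowW a haW _ u hu) ?_
    have := smul_powSum (p := p) ha u
    rwa [powSum_apply] at this
  set f : ZMod p → ZMod p → V := fun k j => (gp g k * gp h j) • v with hf
  have hline : ∀ c : ZMod p, ∑ k : ZMod p, f k (c * k) = 0 := by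
    intro c
    have hcc : Commute g (gp h c) := hc.pow_right _
    have hap : (g * gp h c) ^ p = 1 := by
      rw [hcc.mul_pow, hg, one_mul, gp, ← pow_mul, mul_comm, pow_mul, hh, one_pow]
    have := hsum _ hap (fun w hw => by rw [mul_smul]; exact hgW _ (hpowW h hhW _ w hw)) (h1 c) v hv
    rw [← this]
    refine Finset.sum_congr rfl fun k _ => ?_
    show (gp g k * gp h (c * k)) • v = _
    rw [gp_mul hh]
    show (g ^ k.val * gp h c ^ k.val) • v = (g * gp h c) ^ k.val • v
    rw [hcc.mul_pow]
  have hrow : ∀ k : ZMod p, ∑ j : ZMod p, f k j = 0 := by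
    intro k
    have h' : ∑ j : ZMod p, f k j = gp g k • ∑ j : ZMod p, gp h j • v := by
      rw [Finset.smul_sum]; exact Finset.sum_congr rfl fun j _ => mul_smul _ _ _
    rw [h', hsum h hh hhW h0 v hv, smul_zero]
  have h2 : ∑ c : ZMod p, ∑ k : ZMod p, f k (c * k) = 0 :=
    Finset.sum_eq_zero fun c _ => hline c
  rw [Finset.sum_comm, Fintype.sum_eq_single (0 : ZMod p)] at h2
  · simp only [mul_zero, Finset.sum_const, Finset.card_univ, ZMod.card] at h2
    rw [hf] at h2
    simp only [gp_zero, one_mul, one_smul] at h2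
    exact nsmul_cancel hcop (by rw [h2, smul_zero])
  · intro k hk
    rw [← hrow k]
    exact Fintype.sum_equiv (Equiv.mulRight₀ k hk) _ _ fun c => rfl

theorem exists_vector_stabilizer_le_aux [Finite V] (hp2 : p ≠ 2) (n : ℕ) :
    ∀ (X : Subgroup L) (V' : AddSubgroup V), Nat.card X ≤ n →
      ∀ (z : L) (N : Subgroup L), Finite X → (Nat.card V).Coprime p →
      z ∈ X → N ≤ X → (∀ x ∈ X, x ^ p = 1) → (∀ x ∈ X, ∀ y ∈ X, ⁅x, y⁆ ∈ zpowers z) →
      (∀ x ∈ X, x * z = z * x) →
      (∀ x ∈ X, (∀ y ∈ X, x * y = y * x) → x ∈ zpowers z ⊔ N) →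
      (∀ x ∈ X, ∀ v ∈ V', x • v ∈ V') → (∀ v ∈ V', z • v = v → v = 0) →
      (∀ x ∈ N, ∀ v ∈ V', x • v = v) → (∃ v ∈ V', v ≠ 0) →
      ∃ v ∈ V', ∀ x ∈ X, x • v = v → x ∈ N := by
  induction n with
  | zero =>
    intro X V' hn z N hfin
    have := Nat.card_pos (α := X)
    omega
  | succ n ih =>
    intro X V' hn z N hfin hcop hzX hNX hexp hcomm hzc hcen hinv hz0 hN hne
    haveI := hfin
    obtain ⟨v₀, hv₀, hv₀0⟩ := hne
    have hzp : z ^ p = 1 := hexp z hzX
    have hzord : orderOf z = p := orderOf_eq_prime hzp (fun h => hv₀0 (hz0 v₀ hv₀ (by rw [h, one_smul])))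
    have hzfree : ∀ k : ℕ, ∀ v ∈ V', v ≠ 0 → z ^ k • v = v → z ^ k = 1 := by
      intro k v hv hv0 hk
      by_contra hk1
      have hcopk : p.Coprime k := hp.out.coprime_iff_not_dvd.2 fun hd => hk1
        (by obtain ⟨m, rfl⟩ := hd; rw [pow_mul, hzp, one_pow])
      obtain ⟨m, -, hm⟩ := Nat.exists_mul_mod_eq_one_of_coprime hcopk.symm hp.out.one_lt
      refine hv0 (hz0 v hv ?_)
      have hzm : z = (z ^ k) ^ m := by
        rw [← pow_mul, pow_eq_pow_mod _ hzp, hm, pow_one]
      rw [hzm]
      exact mem_fixSub_zpowers hk _ (pow_mem (mem_zpowers _) m)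
    by_cases hall : X ≤ zpowers z ⊔ N
    · refine ⟨v₀, hv₀, fun x hx hfix => ?_⟩
      have hzN : zpowers z ≤ centralizer (N : Set L) := zpowers_le.2
        (mem_centralizer_iff.2 fun m hm => hzc m (hNX hm))
      have hmem := hall hx
      rw [sup_comm, ← SetLike.mem_coe, coe_mul_of_right_le_normalizer_left] at hmem
      swap
      · exact hzN.trans (centralizer_le_normalizer _)
      obtain ⟨m, hm, w, hw, rfl⟩ := hmem
      obtain ⟨k, rfl⟩ : ∃ k : ℕ, z ^ k = w := by
        obtain ⟨i, rfl⟩ := mem_zpowers_iff.1 hw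
        refine ⟨(i % p).toNat, ?_⟩
        rw [← zpow_natCast, Int.toNat_of_nonneg (Int.emod_nonneg _ (by exact_mod_cast hp.out.ne_zero)),
          ← hzord, zpow_mod_orderOf]
      have hfix' : z ^ k • v₀ = v₀ := by
        have h2 : m • z ^ k • v₀ = v₀ := by rw [← mul_smul]; exact hfix
        rw [hN m hm _ (hinv _ (pow_mem hzX k) v₀ hv₀)] at h2
        exact h2
      show m * z ^ k ∈ N
      rw [hzfree k v₀ hv₀ hv₀0 hfix', mul_one]
      exact hm
    obtain ⟨x, hxX, hx⟩ := SetLike.not_le_iff_exists.1 hall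
    have hxp : x ^ p = 1 := hexp x hxX
    obtain ⟨y₀, hy₀X, hy₀⟩ : ∃ y ∈ X, y * x ≠ x * y := by
      by_contra h
      push Not at h
      exact hx (hcen x hxX fun y hy => (h y hy).symm)
    -- commutators are central in `X`
    have hcen' : ∀ a ∈ X, ∀ c ∈ zpowers z, Commute a c := by
      intro a ha c hc
      obtain ⟨i, rfl⟩ := mem_zpowers_iff.1 hc
      exact (show Commute a z from hzc a ha).zpow_right i
    have hpow : ∀ a ∈ X, ∀ b ∈ X, ∀ k : ℕ, ⁅a ^ k, b⁆ = ⁅a, b⁆ ^ k := by
      intro a ha b hb k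
      induction k with
      | zero => simp
      | succ k ihk =>
        have hc2 : ⁅a ^ (k + 1), b⁆ = a ^ k * ⁅a, b⁆ * (a ^ k)⁻¹ * ⁅a ^ k, b⁆ := by
          rw [pow_succ]; simp only [commutatorElement_def]; group
        rw [hc2, (hcen' (a ^ k) (pow_mem ha k) _ (hcomm a ha b hb)).eq, mul_inv_cancel_right, ihk,
          ← pow_succ']
    obtain ⟨y, hyX, hyx⟩ : ∃ y ∈ X, ⁅y, x⁆ = z := by
      obtain ⟨i, hi⟩ := mem_zpowers_iff.1 (hcomm y₀ hy₀X x hxX)
      have hw : ⁅y₀, x⁆ ≠ 1 := fun h => hy₀ (commutatorElement_eq_one_iff_mul_comm.1 h)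
      obtain ⟨k, hk⟩ := exists_nat_zpow hzp i
      have hkp : k.Coprime p := (hp.out.coprime_iff_not_dvd.2 fun hd => hw (by
        obtain ⟨m, rfl⟩ := hd
        rw [← hi, ← hk, pow_mul, hzp, one_pow])).symm
      obtain ⟨m, -, hm⟩ := Nat.exists_mul_mod_eq_one_of_coprime hkp hp.out.one_lt
      exact ⟨y₀ ^ m, pow_mem hy₀X m, by
        rw [hpow y₀ hy₀X x hxX, ← hi, ← hk, ← pow_mul, pow_eq_pow_mod _ hzp, hm, pow_one]⟩
    have hzy : Commute y z := hzc y hyX
    have hzx : Commute x z := hzc x hxX
    have hyconj : y * x = x * z * y := by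
      rw [commutatorElement_def] at hyx
      rw [show x * z * y = z * x * y by rw [hzx.eq], ← hyx]
      group
    -- the components
    set C : ZMod p → AddSubgroup V := fun c => V' ⊓ fixSub (zpowers (x * gp z c)) with hC
    have hgX : ∀ c : ZMod p, x * gp z c ∈ X := fun c => mul_mem hxX (pow_mem hzX _)
    have hgp : ∀ c : ZMod p, (x * gp z c) ^ p = 1 := fun c => hexp _ (hgX c)
    have hxzc : ∀ (c : ZMod p) (v : V), v ∈ C c → (x * gp z c) • v = v :=
      fun c v hv => hv.2 _ (mem_zpowers _)
    have hshift : ∀ (c : ZMod p) (v : V), v ∈ C c → y • v ∈ C (c + 1) := by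
      intro c v hv
      refine ⟨hinv y hyX v hv.1, mem_fixSub_zpowers ?_⟩
      have hcy : Commute y (gp z c) := hzy.pow_right _
      rw [← mul_smul, gp_add hzp, gp_one,
        show x * (gp z c * z) * y = y * (x * gp z c) by
          rw [← mul_assoc y, hyconj, mul_assoc (x * z), hcy.eq, ← mul_assoc (x * z), mul_assoc x z,
            show z * gp z c = gp z c * z from ((Commute.refl z).pow_right _).eq],
        mul_smul, hxzc c v hv]
    have hC0 : ∃ v ∈ C 0, v ≠ 0 := by
      by_contra h
      push Not at h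
      have hall0 : ∀ c : ZMod p, ∀ w ∈ C c, w = 0 := by
        intro c w hw
        have hk : ∀ k : ℕ, y ^ k • w ∈ C (c + k) := by
          intro k
          induction k with
          | zero => simpa using hw
          | succ k ihk => rw [pow_succ', mul_smul, Nat.cast_succ, ← add_assoc]; exact hshift _ _ ihk
        have h1 := hk (-c).val
        rw [ZMod.natCast_zmod_val, add_neg_cancel] at h1
        exact (MulAction.injective _) (by rw [h _ h1, smul_zero] : y ^ (-c).val • w = y ^ (-c).val • (0 : V))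
      exact hv₀0 (eq_zero_of_fixFree hcop hxp hzp hzx V' (hinv x hxX) (hinv z hzX) hz0
        (fun c w hw hfix => hall0 c w ⟨hw, mem_fixSub_zpowers hfix⟩) hv₀)
    set X₁ := X ⊓ centralizer ({x} : Set L) with hX₁
    haveI : Finite X₁ := Finite.of_injective (inclusion inf_le_left) (inclusion_injective _)
    have hX₁x : ∀ h ∈ X₁, Commute h x := fun h hh =>
      (mem_centralizer_singleton_iff.1 hh.2)
    have hy1 : y ∉ X₁ := fun hy => by
      have h2 := commutatorElement_eq_one_iff_mul_comm.2 (hX₁x y hy).eq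
      rw [hyx] at h2
      rw [h2, orderOf_one] at hzord
      exact hp.out.one_lt.ne hzord
    have hX₁lt : Nat.card X₁ < Nat.card X := by
      refine lt_of_le_of_ne (card_le_of_le inf_le_left) fun he => hy1 ?_
      exact (eq_of_le_of_card_ge (inf_le_left : X₁ ≤ X) he.ge).ge hyX
    have hzX₁ : z ∈ X₁ := ⟨hzX, mem_centralizer_singleton_iff.2 hzx.eq.symm⟩
    have hxX₁ : x ∈ X₁ := ⟨hxX, mem_centralizer_singleton_iff.2 rfl⟩
    have hNz : ∀ w ∈ N, w ∈ zpowers z → w = 1 := by
      intro w hw hw'
      obtain ⟨i, rfl⟩ := mem_zpowers_iff.1 hw'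
      obtain ⟨k, hk⟩ : ∃ k : ℕ, z ^ k = z ^ i := exists_nat_zpow hzp i
      rw [← hk]
      exact hzfree k v₀ hv₀ hv₀0 (hN _ (hk ▸ hw) v₀ hv₀)
    have hNc : ∀ m ∈ N, ∀ a ∈ X, Commute m a := by
      intro m hm a ha
      refine commutatorElement_eq_one_iff_mul_comm.1 ?_
      by_contra hne'
      obtain ⟨i, hi⟩ := mem_zpowers_iff.1 (hcomm m (hNX hm) a ha)
      have hfix : ∀ v ∈ V', ⁅m, a⁆ • v = v := by
        intro v hv
        rw [commutatorElement_def, mul_smul, mul_smul, mul_smul,
          hN m⁻¹ (inv_mem hm) _ (hinv _ (inv_mem ha) v hv),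
          hN m hm _ (hinv a ha _ (hinv _ (inv_mem ha) v hv)), smul_inv_smul]
      obtain ⟨k, hk⟩ : ∃ k : ℕ, z ^ k = z ^ i := exists_nat_zpow hzp i
      exact hne' (by rw [← hi, ← hk]; exact hzfree k v₀ hv₀ hv₀0 (by rw [hk, hi]; exact hfix v₀ hv₀))
    obtain ⟨u, hu, huX⟩ := ih X₁ (C 0) (by omega) z (N ⊔ zpowers x) inferInstance hcop hzX₁
      (sup_le (fun m hm => ⟨hNX hm, mem_centralizer_singleton_iff.2 (hNc m hm x hxX).eq⟩)
        (zpowers_le.2 hxX₁))
      (fun a ha => hexp a ha.1) (fun a ha b hb => hcomm a ha.1 b hb.1) (fun a ha => hzc a ha.1)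
      (by
        intro a ha hac
        obtain ⟨i, hi⟩ := mem_zpowers_iff.1 (hcomm y hyX a ha.1)
        obtain ⟨k, hk⟩ : ∃ k : ℕ, z ^ k = z ^ i := exists_nat_zpow hzp i
        set b := a * (x ^ k)⁻¹ with hb
        have hbX : b ∈ X := mul_mem ha.1 (inv_mem (pow_mem hxX k))
        have hyb : Commute y b := by
          have hya : y * a = z ^ k * a * y := by
            rw [hk, hi]; simp only [commutatorElement_def]; group
          have hyxk : y * x ^ k = x ^ k * z ^ k * y := by
            rw [← hzx.mul_pow]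
            exact ((show SemiconjBy y x (x * z) from hyconj).pow_right k).eq
          have h3 : Commute (z ^ k) a := (hcen' a ha.1 _ (pow_mem (mem_zpowers z) k)).symm
          have h4 : y * (x ^ k)⁻¹ = (x ^ k * z ^ k)⁻¹ * y :=
            ((show SemiconjBy y (x ^ k) (x ^ k * z ^ k) from hyxk).inv_right).eq
          show y * b = b * y
          rw [hb, ← mul_assoc, hya, mul_assoc _ y, h4, mul_inv_rev, h3.eq]
          group
        have hbc : ∀ w ∈ X, b * w = w * b := by
          intro w hw
          obtain ⟨j, hj⟩ := mem_zpowers_iff.1 (hcomm w hw x hxX)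
          obtain ⟨m, hm⟩ : ∃ m : ℕ, z ^ m = z ^ j := exists_nat_zpow hzp j
          set w₁ := (y ^ m)⁻¹ * w with hw₁
          have hw₁X : w₁ ∈ X := mul_mem (inv_mem (pow_mem hyX m)) hw
          have hw₁x : Commute w₁ x := by
            have hwx : w * x = z ^ m * x * w := by
              rw [hm, hj]; simp only [commutatorElement_def]; group
            have hym : y ^ m * x = z ^ m * x * y ^ m := by
              have := hpow y hyX x hxX m
              rw [hyx] at this
              rw [← this]; simp only [commutatorElement_def]; group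
            show w₁ * x = x * w₁
            rw [hw₁, mul_assoc, hwx, inv_mul_eq_iff_eq_mul, ← mul_assoc, ← mul_assoc, hym]
            group
          have h1 : Commute b w₁ := by
            have hmem : w₁ ∈ X₁ := ⟨hw₁X, mem_centralizer_singleton_iff.2 hw₁x.eq⟩
            exact (show Commute a w₁ from hac w₁ hmem).mul_left
              ((hw₁x.pow_right k).symm.inv_left)
          have : Commute b (y ^ m * w₁) := (hyb.symm.pow_right m).mul_right h1
          rw [hw₁, mul_inv_cancel_left] at this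
          exact this.eq
        have hle : zpowers z ⊔ N ≤ zpowers z ⊔ (N ⊔ zpowers x) := sup_le_sup_left le_sup_left _
        have ha' : a = b * x ^ k := by rw [hb, inv_mul_cancel_right]
        rw [ha']
        exact mul_mem (hle (hcen b hbX hbc))
          (mem_sup_right (mem_sup_right (pow_mem (mem_zpowers x) k))))
      (fun a ha v hv => ⟨hinv a ha.1 v hv.1, mem_fixSub_zpowers (by
        have hax : Commute a (x * gp z (0 : ZMod p)) := by rw [gp_zero, mul_one]; exact hX₁x a ha
        rw [← mul_smul, ← hax.eq, mul_smul, hxzc 0 v hv])⟩)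
      (fun v hv => hz0 v hv.1)
      (fun a ha v hv => by
        have hle : N ⊔ zpowers x ≤ MulAction.stabilizer L v := sup_le (fun m hm => hN m hm v hv.1)
          (zpowers_le.2 (by
            have := hxzc 0 v hv
            rwa [gp_zero, mul_one] at this))
        exact hle ha) hC0
    -- we may assume `u ≠ 0`
    obtain ⟨v1, hv1, hv10⟩ := hC0
    by_cases hu0 : u = 0
    · -- then the stabiliser of every vector is everything
      exfalso
      have hzN := huX z hzX₁ (by rw [hu0, smul_zero])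
      have hle : N ⊔ zpowers x ≤ MulAction.stabilizer L v1 := sup_le (fun m hm => hN m hm v1 hv1.1)
        (zpowers_le.2 (by
          have := hxzc 0 v1 hv1
          rwa [gp_zero, mul_one] at this))
      exact hv10 (hz0 v1 hv1.1 (hle hzN))
    refine ⟨u + y • u, V'.add_mem hu.1 (hinv y hyX u hu.1), fun g hg hfix => ?_⟩
    have huy : y • u ∈ C 1 := by simpa using hshift 0 u hu
    obtain ⟨j, hj⟩ := mem_zpowers_iff.1 (hcomm g hg x hxX)
    obtain ⟨m, hm⟩ : ∃ m : ZMod p, gp z m = z ^ j := by
      refine ⟨(j : ZMod p), ?_⟩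
      rw [gp, ← zpow_natCast, ZMod.val_intCast, ← hzord, zpow_mod_orderOf]
    have hgc : ∀ c : ZMod p, ∀ v ∈ C c, g • v ∈ C (c + m) := by
      intro c v hv
      refine ⟨hinv g hg v hv.1, mem_fixSub_zpowers ?_⟩
      have hgx : g * x = gp z m * x * g := by
        rw [hm, hj]; simp only [commutatorElement_def]; group
      have hgz : Commute g (gp z c) := (show Commute g z from hzc g hg).pow_right _
      have hxz : Commute x (gp z m) := hzx.pow_right _
      rw [← mul_smul, add_comm c m, gp_add hzp,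
        show x * (gp z m * gp z c) * g = g * (x * gp z c) by
          rw [← mul_assoc, hxz.eq, mul_assoc _ (gp z c), ← hgz.eq, ← mul_assoc, ← hgx]; group,
        mul_smul, hxzc c v hv]
    have hproj : ∀ c d : ZMod p, ∀ v ∈ C d, powSum p (x * gp z c) v = if d = c then p • v else 0 := by
      intro c d v hv
      split
      next h => subst h; exact powSum_of_fixed (hxzc d v hv)
      next h =>
        have hV' : powSum p (x * gp z c) v ∈ V' := by
          rw [powSum_apply]
          exact V'.sum_mem fun k _ => hinv _ (pow_mem (hgX c) _) v hv.1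
        have hcd : Commute (x * gp z d) (x * gp z c) :=
          ((Commute.refl x).mul_right (hzx.pow_right _)).mul_left
            (((hzx.pow_right _).symm).mul_right (Commute.pow_pow (Commute.refl z) _ _))
        set w := powSum p (x * gp z c) v with hw
        have h1 : (x * gp z c) • w = w := smul_powSum (hgp c) v
        have h2 : (x * gp z d) • w = w := by
          rw [hw, smul_powSum_of_commute hcd, hxzc d v hv]
        have h3 : (gp z d * (gp z c)⁻¹) • w = w := by
          have hk : gp z d * (gp z c)⁻¹ ∈ MulAction.stabilizer L w := by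
            have : gp z d * (gp z c)⁻¹ = (x * gp z c)⁻¹ * (x * gp z d) := by
              rw [mul_inv_rev, mul_assoc, inv_mul_cancel_left]
              exact ((Commute.pow_pow (Commute.refl z) _ _).inv_right).eq
            rw [this]
            exact mul_mem (inv_mem h1) h2
          exact hk
        have h4 : gp z d * (gp z c)⁻¹ = gp z (d - c) := by
          rw [mul_inv_eq_iff_eq_mul, ← gp_add hzp, sub_add_cancel]
        rw [h4, gp] at h3
        by_contra hw0
        have h5 := hzfree _ _ hV' hw0 h3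
        rw [← orderOf_dvd_iff_pow_eq_one, hzord] at h5
        have h6 := Nat.eq_zero_of_dvd_of_lt h5 (ZMod.val_lt _)
        rw [ZMod.val_eq_zero, sub_eq_zero] at h6
        exact h h6
    have hp0 : ∀ v : V, p • v = 0 → v = 0 := fun v hv =>
      nsmul_cancel hcop (by rw [hv, smul_zero])
    have hyu0 : y • u ≠ 0 := fun h => hu0 (MulAction.injective y (show y • u = y • (0 : V) by rw [h, smul_zero]))
    have hgu : g • u ∈ C m := by simpa using hgc 0 u hu
    have hgy : g • y • u ∈ C (1 + m) := hgc 1 _ huy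
    rw [smul_add] at hfix
    have hm0 : m = 0 := by
      by_contra hmne
      by_cases hm1 : 1 + m = 0
      · have h := congrArg (powSum p (x * gp z (1 : ZMod p))) hfix
        have hm11 : m ≠ 1 := by
          intro h1
          rw [h1] at hm1
          have h2 : ((2 : ℕ) : ZMod p) = 0 := by rw [Nat.cast_ofNat, ← one_add_one_eq_two]; exact hm1
          rw [ZMod.natCast_eq_zero_iff] at h2
          exact hp2 ((Nat.prime_dvd_prime_iff_eq hp.out Nat.prime_two).1 h2)
        rw [map_add, map_add, hproj 1 m _ hgu, hproj 1 (1 + m) _ hgy, hproj 1 0 _ hu, hproj 1 1 _ huy,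
          if_neg hm11, if_neg (by rw [hm1]; exact zero_ne_one), if_neg zero_ne_one, if_pos rfl] at h
        rw [add_zero, zero_add] at h
        exact hyu0 (hp0 _ h.symm)
      · have h := congrArg (powSum p (x * gp z (0 : ZMod p))) hfix
        rw [map_add, map_add, hproj 0 m _ hgu, hproj 0 (1 + m) _ hgy, hproj 0 0 _ hu, hproj 0 1 _ huy,
          if_neg hmne, if_neg hm1, if_pos rfl, if_neg one_ne_zero] at h
        rw [add_zero, add_zero] at h
        exact hu0 (hp0 _ h.symm)
    subst hm0
    have hgX₁ : g ∈ X₁ := ⟨hg, mem_centralizer_singleton_iff.2 (commutatorElement_eq_one_iff_mul_comm.1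
      (by rw [← hj, ← hm, gp_zero]))⟩
    have hgu' : g • u = u := by
      have h := congrArg (powSum p (x * gp z (0 : ZMod p))) hfix
      rw [map_add, map_add, hproj 0 0 _ hgu, hproj 0 (1 + 0) _ hgy, hproj 0 0 _ hu, hproj 0 1 _ huy,
        if_pos rfl, if_neg (by rw [add_zero]; exact one_ne_zero), if_neg one_ne_zero, add_zero,
        add_zero] at h
      exact nsmul_cancel hcop (by simpa using h)
    have hgy' : g • y • u = y • u := by rw [hgu'] at hfix; exact add_left_cancel hfix
    have hxN : zpowers x ≤ centralizer (N : Set L) := zpowers_le.2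
      (mem_centralizer_iff.2 fun m hm => (hNc m hm x hxX).eq)
    have hmem := huX g hgX₁ hgu'
    rw [← SetLike.mem_coe, coe_mul_of_right_le_normalizer_left] at hmem
    swap
    · exact hxN.trans (centralizer_le_normalizer _)
    obtain ⟨n', hn', w, hw, rfl⟩ := hmem
    obtain ⟨i, rfl⟩ := mem_zpowers_iff.1 hw
    obtain ⟨k, hk⟩ := exists_nat_zpow hxp i
    have hxy : x ^ k • y • u = y • u := by
      have h2 : n' • x ^ i • y • u = y • u := by rw [← mul_smul]; exact hgy'
      rw [hN n' hn' _ (hinv _ (hk ▸ pow_mem hxX k) _ huy.1)] at h2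
      rw [hk]; exact h2
    have hz' : z ^ k • y • u = y • u := by
      have h2 : (x * z) • y • u = y • u := by
        have := hxzc 1 _ huy
        rwa [gp_one] at this
      have h3 : (x * z) ^ k • y • u = y • u :=
        mem_fixSub_zpowers h2 _ (pow_mem (mem_zpowers _) k)
      rw [hzx.mul_pow, (hzx.pow_pow k k).eq, mul_smul, hxy] at h3
      exact h3
    have hzk := hzfree k _ huy.1 hyu0 hz'
    rw [← orderOf_dvd_iff_pow_eq_one, hzord] at hzk
    have hxk : x ^ i = 1 := by
      obtain ⟨m', rfl⟩ := hzk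
      rw [← hk, pow_mul, hxp, one_pow]
    show n' * x ^ i ∈ N
    rw [hxk, mul_one]; exact hn'

/-- A group of odd prime exponent with commutators in a fixed point free central subgroup has a vector
with stabiliser in the kernel. -/
theorem exists_vector_stabilizer_le [Finite V] (hp2 : p ≠ 2) (hcop : (Nat.card V).Coprime p)
    (X : Subgroup L) [Finite X] (z : L) (hzX : z ∈ X) (hexp : ∀ x ∈ X, x ^ p = 1)
    (hcomm : ∀ x ∈ X, ∀ y ∈ X, ⁅x, y⁆ ∈ zpowers z) (hzc : ∀ x ∈ X, x * z = z * x)
    (hcen : ∀ x ∈ X, (∀ y ∈ X, x * y = y * x) → x ∈ zpowers z)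
    (hz0 : ∀ v : V, z • v = v → v = 0) (hne : ∃ v : V, v ≠ 0) :
    ∃ v : V, ∀ x ∈ X, x • v = v → x = 1 := by
  obtain ⟨v, -, hv⟩ := exists_vector_stabilizer_le_aux hp2 (Nat.card X) X (⊤ : AddSubgroup V) le_rfl
    z ⊥ inferInstance hcop hzX bot_le hexp hcomm hzc
    (fun x hx h => by rw [sup_bot_eq]; exact hcen x hx h)
    (fun _ _ _ _ => AddSubgroup.mem_top _) (fun v _ => hz0 v)
    (fun x hx v _ => by rw [mem_bot.1 hx, one_smul])
    (hne.imp fun v hv => ⟨AddSubgroup.mem_top v, hv⟩)
  exact ⟨v, fun x hx h => mem_bot.1 (hv x hx h)⟩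

end CfsgLib.SubnClass
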