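import Mathlib

/-!
For an element of a normal `p`-subgroup of a transitive group which moves some point, some set of
points is fixed by none of its conjugates.
-/

set_option autoImplicit false

namespace CfsgLib.SubnClass

open Subgroup

variable {L : Type*} [Group L]

/-- Some set of cosets of `K` is fixed by no conjugate of `a`. -/
theorem exists_set_not_fixed [Finite L] {p : ℕ} [Fact p.Prime] (P : Subgroup L) [P.Normal]
    (hP : IsPGroup p P) {a : L} (haP : a ∈ P) (n : ℕ) :
    ∀ K : Subgroup L, K.index ≤ n → a ∉ K.normalCore →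
      ∃ S : Set (L ⧸ K), ∀ l : L, ∃ q : L ⧸ K, ¬ (q ∈ S ↔ (l * a * l⁻¹) • q ∈ S) := by
  induction n with
  | zero =>
    intro K hK _
    exact absurd (Nat.le_zero.1 hK) K.index_ne_zero_of_finite
  | succ n ih =>
    intro K hK ha
    have hKtop : K ≠ ⊤ := by
      rintro rfl
      rw [normalCore_eq_self] at ha
      exact ha (mem_top a)
    obtain ⟨M, -, hKM, hmin⟩ := exists_minimal_le_of_wellFoundedLT (fun M : Subgroup L => K < M) ⊤
      (lt_top_iff_ne_top.2 hKtop)
    have hKM' : K ≤ M := hKM.le
    have hproj : ∀ (x g : L), quotientMapOfLE hKM' (x • (QuotientGroup.mk g : L ⧸ K)) =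
        x • quotientMapOfLE hKM' (QuotientGroup.mk g : L ⧸ K) := fun x g => rfl
    by_cases haM : a ∈ M.normalCore
    · -- a transversal
      set S : Set (L ⧸ K) := Set.range fun q : L ⧸ M => (QuotientGroup.mk q.out : L ⧸ K) with hS
      refine ⟨S, fun l => ?_⟩
      by_contra hall
      push Not at hall
      set x := l * a * l⁻¹ with hx
      have hxM : x ∈ M.normalCore := (normalCore_normal M).conj_mem a haM l
      have hxP : x ∈ P := (inferInstance : P.Normal).conj_mem a haP l
      have hfix : ∀ q : L ⧸ M, q.out⁻¹ * x * q.out ∈ K := by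
        intro q
        obtain ⟨q', hq'⟩ := (hall _).1 (⟨q, rfl⟩ : (QuotientGroup.mk q.out : L ⧸ K) ∈ S)
        have hq'2 : (QuotientGroup.mk q'.out : L ⧸ K) = QuotientGroup.mk (x * q.out) := hq'
        have hqq : q' = q := by
          have h1 := congrArg (quotientMapOfLE hKM') hq'2
          change (QuotientGroup.mk q'.out : L ⧸ M) = QuotientGroup.mk (x * q.out) at h1
          rw [QuotientGroup.out_eq'] at h1
          rw [h1]
          conv_rhs => rw [← q.out_eq']
          rw [QuotientGroup.eq]
          have := M.normalCore_le ((normalCore_normal M).conj_mem x⁻¹ (inv_mem hxM) q.out⁻¹)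
          simpa [mul_assoc] using this
        rw [hqq, QuotientGroup.eq] at hq'2
        simpa [mul_assoc] using hq'2
      -- `P ⊓ K` is normal in `M`
      have hQ : ∀ m ∈ M, ∀ y ∈ P ⊓ K, m * y * m⁻¹ ∈ K := by
        set Q := P ⊓ M with hQdef
        set R := P ⊓ K with hR
        have hKR : K ≤ normalizer (R : Set L) := by
          intro k hk
          rw [mem_normalizer_iff_map_conj_eq]
          refine eq_of_le_of_card_ge ?_ (Nat.card_congr (equivMapOfInjective R _
            (MulAut.conj k).injective).toEquiv).le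
          rintro _ ⟨y, hy, rfl⟩
          exact mem_inf.2 ⟨(inferInstance : P.Normal).conj_mem y hy.1 k,
            mul_mem (mul_mem hk hy.2) (inv_mem hk)⟩
        by_cases hQR : Q ≤ R
        · intro m hm y hy
          exact (hQR (mem_inf.2 ⟨(inferInstance : P.Normal).conj_mem y hy.1 m,
            mul_mem (mul_mem hm (hKM' hy.2)) (inv_mem hm)⟩)).2
        haveI : Group.IsNilpotent Q := (hP.to_le inf_le_left).isNilpotent
        have hlt : R.subgroupOf Q < ⊤ := lt_top_iff_ne_top.2 fun h =>
          hQR (subgroupOf_eq_top.1 h)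
        obtain ⟨w, hwN, hwR⟩ := SetLike.exists_of_lt (normalizerCondition_of_isNilpotent _ hlt)
        have hwR' : (w : L) ∈ normalizer (R : Set L) := by
          rw [mem_normalizer_iff]
          intro y
          constructor
          · intro hy
            have := (mem_normalizer_iff.1 hwN ⟨y, hy.1, hKM' hy.2⟩).1 hy
            exact this
          · intro hy
            have hyQ : y ∈ Q := by
              have h1 : (w : L)⁻¹ * ((w : L) * y * (w : L)⁻¹) * (w : L) ∈ Q :=
                mul_mem (mul_mem (inv_mem w.2) ⟨hy.1, hKM' hy.2⟩) w.2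
              simpa [mul_assoc] using h1
            exact (mem_normalizer_iff.1 hwN ⟨y, hyQ⟩).2 hy
        have hMN : M ≤ normalizer (R : Set L) := by
          have hK' : K < M ⊓ normalizer (R : Set L) := by
            refine lt_of_le_of_ne (le_inf hKM' hKR) fun he => hwR ?_
            have : (w : L) ∈ K := he.ge ⟨w.2.2, hwR'⟩
            exact ⟨w.2.1, this⟩
          exact (hmin hK' inf_le_left).trans inf_le_right
        intro m hm y hy
        exact ((mem_normalizer_iff.1 (hMN hm) y).1 hy).2
      refine ha fun b => ?_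
      set g := b * l⁻¹ with hg
      have hbg : b * a * b⁻¹ = g * x * g⁻¹ := by rw [hg, hx]; group
      set q : L ⧸ M := QuotientGroup.mk g⁻¹
      have hm : g * q.out ∈ M := by
        have := QuotientGroup.eq.1 (q.out_eq' : (QuotientGroup.mk q.out : L ⧸ M) = QuotientGroup.mk g⁻¹)
        simpa using inv_mem this
      rw [hbg, show g * x * g⁻¹ = (g * q.out) * (q.out⁻¹ * x * q.out) * (g * q.out)⁻¹ by group]
      refine hQ _ hm _ ⟨?_, hfix q⟩
      simpa using (inferInstance : P.Normal).conj_mem x hxP q.out⁻¹
    · obtain ⟨S', hS'⟩ := ih M (Nat.lt_succ_iff.1 (lt_of_lt_of_le (index_strictAnti hKM) hK)) haM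
      refine ⟨quotientMapOfLE hKM' ⁻¹' S', fun l => ?_⟩
      obtain ⟨q', hq'⟩ := hS' l
      obtain ⟨g, rfl⟩ := QuotientGroup.mk_surjective q'
      exact ⟨QuotientGroup.mk g, hq'⟩

end CfsgLib.SubnClass
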