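import Cfsg.Agent.SubnormalClass.Fixed
import Cfsg.Agent.SubnormalClass.Perm
import Cfsg.Agent.CyclicNormal.Symplectic
import Cfsg.Agent.Solvable.Basics

/-!
A conjugacy class of a normal `p`-subgroup, `p` odd, of an irreducible linear group avoids the stabiliser
of some vector.
-/

set_option autoImplicit false
set_option maxHeartbeats 800000

namespace CfsgLib.SubnClass

open Subgroup
open scoped commutatorElement

universe w v

variable {p : ℕ} [Fact p.Prime]

/-- An abelian `p`-group whose elements of order dividing `p` lie in a cyclic subgroup is cyclic. -/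
theorem isCyclic_of_pow_eq_one {P : Type*} [CommGroup P] [Finite P] (hP : IsPGroup p P)
    (A : Subgroup P) (hA : ∀ x : P, x ^ p = 1 → x ∈ A) [IsCyclic A] : IsCyclic P := by
  classical
  haveI : Fintype P := Fintype.ofFinite P
  -- the number of solutions of `x ^ p ^ k = 1` is at most `p ^ k`
  have hker : ∀ k : ℕ, Nat.card (powMonoidHom (p ^ k) : P →* P).ker ≤ p ^ k := by
    intro k
    induction k with
    | zero =>
      rw [pow_zero]
      refine le_of_eq (card_eq_one.2 ((eq_bot_iff_forall _).2 fun x hx => ?_))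
      simpa using (MonoidHom.mem_ker.1 hx)
    | succ k ihk =>
      set K1 := (powMonoidHom (p ^ (k + 1)) : P →* P).ker with hK1
      set f : K1 →* P := (powMonoidHom (p ^ k) : P →* P).comp K1.subtype with hf
      rw [card_eq_card_quotient_mul_card_subgroup f.ker,
        Nat.card_congr (QuotientGroup.quotientKerEquivRange f).toEquiv, pow_succ']
      refine Nat.mul_le_mul ?_ ?_
      · have h1 : f.range ≤ (powMonoidHom p : A →* A).ker.map A.subtype := by
          rintro _ ⟨⟨x, hx⟩, rfl⟩
          have hx' : (x ^ p ^ k) ^ p = 1 := by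
            rw [← pow_mul, ← pow_succ]; exact hx
          exact ⟨⟨x ^ p ^ k, hA _ hx'⟩, MonoidHom.mem_ker.2 (Subtype.ext hx'), rfl⟩
        refine (card_le_of_le h1).trans ?_
        rw [card_map_of_injective A.subtype_injective, IsCyclic.card_powMonoidHom_ker]
        exact Nat.gcd_le_right _ (Fact.out : p.Prime).pos
      · refine le_trans ?_ ihk
        refine Nat.card_le_card_of_injective (fun x => (⟨((x : K1) : P), x.2⟩ :
          (powMonoidHom (p ^ k) : P →* P).ker)) fun x y hxy => ?_
        exact Subtype.ext (Subtype.ext (congrArg (fun z : (powMonoidHom (p ^ k) : P →* P).ker => (z : P)) hxy))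
  obtain ⟨n, hn⟩ := IsPGroup.iff_card.1 hP
  refine isCyclic_of_card_pow_eq_one_le fun d hd => ?_
  obtain ⟨j, hj, hdj⟩ := (Nat.dvd_prime_pow (Fact.out : p.Prime)).1
    ((Nat.gcd_dvd_right d (Nat.card P)).trans hn.dvd)
  refine le_trans ?_ ((hker j).trans (hdj ▸ Nat.gcd_le_left _ hd))
  rw [← Fintype.card_subtype, ← Nat.card_eq_fintype_card]
  refine Nat.card_le_card_of_injective (fun x => (⟨x.1, MonoidHom.mem_ker.2 ?_⟩ :
    (powMonoidHom (p ^ j) : P →* P).ker)) fun x y hxy => ?_
  · show x.1 ^ p ^ j = 1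
    rw [← hdj]
    exact pow_gcd_eq_one.2 ⟨x.2, pow_card_eq_one'⟩
  · exact Subtype.ext (congrArg (fun z : (powMonoidHom (p ^ j) : P →* P).ker => (z : P)) hxy)

/-- A subgroup that is a `p`-group with a cyclic elementary abelian part. -/
theorem isCyclic_of_elementary {L : Type*} [Group L] [Finite L] (A : Subgroup L) (hA : IsPGroup p A)
    (hcomm : IsMulCommutative A)
    (h : ∀ B : Subgroup L, (∀ x, x ∈ B ↔ x ∈ A ∧ x ^ p = 1) → IsCyclic B) : IsCyclic A := by
  haveI := hcomm
  letI : CommGroup A := { (inferInstance : Group A) with mul_comm := fun a b => mul_comm' a b }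
  set E : Subgroup A := (powMonoidHom p : A →* A).ker
  haveI : IsCyclic (E.map A.subtype) := h _ fun x => by
    constructor
    · rintro ⟨y, hy, rfl⟩
      exact ⟨y.2, by simpa using congrArg Subtype.val (MonoidHom.mem_ker.1 hy)⟩
    · exact fun hx => ⟨⟨x, hx.1⟩, MonoidHom.mem_ker.2 (Subtype.ext hx.2), rfl⟩
  haveI : IsCyclic E := (E.equivMapOfInjective A.subtype A.subtype_injective).isCyclic.2 inferInstance
  exact isCyclic_of_pow_eq_one hA E fun x hx => MonoidHom.mem_ker.2 hx

/-- Without normal noncyclic elementary abelian subgroups a vector has stabiliser avoiding the elements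
of order `p`. -/
theorem avoid_of_cyclic {L : Type v} {V : Type w} [Group L] [Finite L] [AddCommGroup V] [Finite V]
    [DistribMulAction L V] [FaithfulSMul L V] (hp2 : p ≠ 2) (hcop : (Nat.card V).Coprime p)
    (hirr : ∀ W : AddSubgroup V, (∀ l : L, ∀ v ∈ W, l • v ∈ W) → W = ⊥ ∨ W = ⊤)
    (P : Subgroup L) [P.Normal] (hP : IsPGroup p P)
    (hno : ∀ R : Subgroup L, R ≤ P → R.Normal → IsMulCommutative R → (∀ x ∈ R, x ^ p = 1) → IsCyclic R)
    (a : L) (haP : a ∈ P) (ha : a ≠ 1) (hap : a ^ p = 1) :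
    ∃ v : V, ∀ l : L, (l * a * l⁻¹) • v ≠ v := by
  classical
  have hcyc : ∀ A : Subgroup P, A.Characteristic → IsMulCommutative A → IsCyclic A := by
    intro A hAch hAc
    haveI := hAch
    haveI hN : (A.map P.subtype).Normal := ConjAct.normal_of_characteristic_of_normal
    have hAc' : ∀ x ∈ A.map P.subtype, ∀ y ∈ A.map P.subtype, x * y = y * x := by
      rintro _ ⟨x, hx, rfl⟩ _ ⟨y, hy, rfl⟩
      haveI := hAc
      exact congrArg (fun z : A => ((z : P) : L)) (mul_comm' (⟨x, hx⟩ : A) ⟨y, hy⟩)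
    have : IsCyclic (A.map P.subtype) := by
      refine isCyclic_of_elementary (A.map P.subtype) (hP.to_le (map_subtype_le A))
        ⟨⟨fun x y => Subtype.ext (hAc' x x.2 y y.2)⟩⟩ fun B hB => hno B ?_ ?_ ?_ ?_
      · exact fun x hx => map_subtype_le A ((hB x).1 hx).1
      · refine ⟨fun x hx g => (hB _).2 ⟨hN.conj_mem x ((hB x).1 hx).1 g, ?_⟩⟩
        rw [conj_pow, ((hB x).1 hx).2, mul_one, mul_inv_cancel]
      · exact ⟨⟨fun x y => Subtype.ext (hAc' x ((hB x).1 x.2).1 y ((hB y).1 y.2).1)⟩⟩
      · exact fun x hx => ((hB x).1 hx).2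
    exact (A.equivMapOfInjective P.subtype P.subtype_injective).isCyclic.2 this
  obtain ⟨E, R, hER, hsup, hE, hR⟩ := Cfsg.Agent.CyclicNormal.symplectic_type hP hcyc
  replace hR : IsCyclic R := hR.resolve_right fun h => hp2 h.1
  -- commutators are central in `P`
  have hcc : ∀ u v : P, ⁅u, v⁆ ∈ center P := by
    have hEZ : ∀ e ∈ E, ∀ f ∈ E, ⁅e, f⁆ ∈ center P := by
      rcases hE with hE | hE
      · intro e he f hf
        rw [hE, mem_bot] at he
        rw [he, commutatorElement_one_left]; exact one_mem _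
      intro e he f hf
      rw [← centralizer_univ, mem_centralizer_iff]
      have hEc : ⁅(⟨e, he⟩ : E), ⟨f, hf⟩⁆ ∈ center E :=
        hE.1.2.2.le (commutator_mem_commutator (mem_top _) (mem_top _))
      intro w _
      have hw : w ∈ E ⊔ R := hsup ▸ mem_top w
      have hle : E ⊔ R ≤ centralizer ({⁅e, f⁆} : Set P) := sup_le
        (fun x hx => mem_centralizer_singleton_iff.2
          (congrArg Subtype.val (mem_center_iff.1 hEc ⟨x, hx⟩)))
        (fun r hr => mem_centralizer_singleton_iff.2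
          (hER _ ((⁅(⟨e, he⟩ : E), ⟨f, hf⟩⁆ : E)).2 r hr).symm)
      exact mem_centralizer_singleton_iff.1 (hle hw)
    have hRc : ∀ r ∈ R, r ∈ center P := by
      intro r hr
      rw [mem_center_iff]
      intro w
      have hle : E ⊔ R ≤ centralizer ({r} : Set P) := sup_le
        (fun x hx => mem_centralizer_singleton_iff.2 (hER x hx r hr))
        (fun x hx => mem_centralizer_singleton_iff.2 (by
          haveI := hR
          exact congrArg Subtype.val (mul_comm' (⟨x, hx⟩ : R) ⟨r, hr⟩)))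
      exact mem_centralizer_singleton_iff.1 (hle (hsup ▸ mem_top w))
    intro u v
    have hN : E ≤ normalizer (R : Set P) := fun e he =>
      centralizer_le_normalizer _ (mem_centralizer_iff.2 fun r hr => (hER e he r hr).symm)
    have hdec : ∀ w : P, ∃ e ∈ E, ∃ r ∈ R, e * r = w := by
      intro w
      have hw : w ∈ ((E ⊔ R : Subgroup P) : Set P) := hsup ▸ mem_top w
      rwa [coe_mul_of_left_le_normalizer_right _ _ hN] at hw
    obtain ⟨e, he, r, hr, rfl⟩ := hdec u
    obtain ⟨f, hf, s, hs, rfl⟩ := hdec v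
    have hr' := mem_center_iff.1 (hRc r hr)
    have hs' := mem_center_iff.1 (hRc s hs)
    have : ⁅e * r, f * s⁆ = ⁅e, f⁆ := by
      simp only [commutatorElement_def, mul_inv_rev]
      calc e * r * (f * s) * (r⁻¹ * e⁻¹) * (s⁻¹ * f⁻¹)
          = e * (r * f) * s * r⁻¹ * e⁻¹ * s⁻¹ * f⁻¹ := by group
        _ = e * (f * r) * s * r⁻¹ * e⁻¹ * s⁻¹ * f⁻¹ := by rw [hr' f]
        _ = e * f * (r * s) * r⁻¹ * e⁻¹ * s⁻¹ * f⁻¹ := by group
        _ = e * f * (s * r) * r⁻¹ * e⁻¹ * s⁻¹ * f⁻¹ := by rw [hs' r]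
        _ = e * f * (s * e⁻¹) * s⁻¹ * f⁻¹ := by group
        _ = e * f * (e⁻¹ * s) * s⁻¹ * f⁻¹ := by rw [hs' e⁻¹]
        _ = _ := by group
    rw [this]; exact hEZ e he f hf
  have hcc' : ∀ u ∈ P, ∀ v ∈ P, ∀ w ∈ P, w * ⁅u, v⁆ = ⁅u, v⁆ * w := fun u hu v hv w hw =>
    congrArg Subtype.val (mem_center_iff.1 (hcc ⟨u, hu⟩ ⟨v, hv⟩) ⟨w, hw⟩)
  have hpow : ∀ u ∈ P, ∀ v ∈ P, ∀ k : ℕ, ⁅u ^ k, v⁆ = ⁅u, v⁆ ^ k := by
    intro u hu v hv k
    induction k with
    | zero => simp
    | succ k ihk =>
      have h1 : ⁅u ^ (k + 1), v⁆ = u ^ k * ⁅u, v⁆ * (u ^ k)⁻¹ * ⁅u ^ k, v⁆ := by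
        rw [pow_succ]; simp only [commutatorElement_def]; group
      rw [h1, hcc' u hu v hv _ (pow_mem hu k), mul_inv_cancel_right, ihk, ← pow_succ']
  -- the elements of order dividing `p`
  have hmul : ∀ x y : L, x ∈ P → y ∈ P → x ^ p = 1 → y ^ p = 1 → (x * y) ^ p = 1 := by
    intro x y hx hy hxp hyp
    set c := ⁅y, x⁆ with hc
    have hcx : Commute c x := (hcc' y hy x hx x hx).symm
    have hcy : Commute c y := (hcc' y hy x hx y hy).symm
    have hcp : c ^ p = 1 := by rw [hc, ← hpow y hy x hx, hyp, commutatorElement_one_left]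
    have hyxk : ∀ k : ℕ, y ^ k * x = c ^ k * x * y ^ k := by
      intro k
      rw [hc, ← hpow y hy x hx]; simp only [commutatorElement_def]; group
    have hform : ∀ k : ℕ, (x * y) ^ k = x ^ k * y ^ k * c ^ k.choose 2 := by
      intro k
      induction k with
      | zero => simp
      | succ k ihk =>
        rw [pow_succ, ihk]
        calc x ^ k * y ^ k * c ^ k.choose 2 * (x * y)
            = x ^ k * y ^ k * (x * y) * c ^ k.choose 2 := by
              rw [mul_assoc (x ^ k * y ^ k), ((hcx.mul_right hcy).pow_left _).eq, ← mul_assoc]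
          _ = x ^ k * (y ^ k * x) * y * c ^ k.choose 2 := by simp only [mul_assoc]
          _ = x ^ k * (x * c ^ k) * y ^ k * y * c ^ k.choose 2 := by
              rw [hyxk k, ← (hcx.pow_left k).eq]; simp only [mul_assoc]
          _ = x ^ (k + 1) * (c ^ k * (y ^ k * y)) * c ^ k.choose 2 := by
              rw [pow_succ x]; simp only [mul_assoc]
          _ = x ^ (k + 1) * (y ^ (k + 1) * c ^ k) * c ^ k.choose 2 := by
              rw [← pow_succ y, ((hcy.pow_left k).pow_right (k + 1)).eq]
          _ = _ := by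
              rw [show (k + 1).choose 2 = k + k.choose 2 by
                rw [Nat.choose_succ_succ', Nat.choose_one_right], pow_add c k]
              simp only [mul_assoc]
    have hd : p ∣ p.choose 2 := (Fact.out : p.Prime).dvd_choose_self two_ne_zero
      (lt_of_le_of_ne (Fact.out : p.Prime).two_le (Ne.symm hp2))
    obtain ⟨m, hm⟩ := hd
    rw [hform, hxp, hyp, hm, pow_mul, hcp, one_pow, one_mul, one_mul]
  let X : Subgroup L :=
    { carrier := {x | x ∈ P ∧ x ^ p = 1}
      one_mem' := ⟨one_mem _, one_pow _⟩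
      mul_mem' := fun hx hy => ⟨mul_mem hx.1 hy.1, hmul _ _ hx.1 hy.1 hx.2 hy.2⟩
      inv_mem' := fun hx => ⟨inv_mem hx.1, by rw [inv_pow, hx.2, inv_one]⟩ }
  have hXn : X.Normal := ⟨fun x hx g => ⟨(inferInstance : P.Normal).conj_mem x hx.1 g, by
    rw [conj_pow, hx.2, mul_one, mul_inv_cancel]⟩⟩
  let Z : Subgroup L := X ⊓ centralizer (X : Set L)
  have hZn : Z.Normal := by haveI := hXn; exact normal_inf_normal _ _
  have hZcyc : IsCyclic Z := hno Z (fun x hx => hx.1.1) hZn
    ⟨⟨fun x y => Subtype.ext (mem_centralizer_iff.1 y.2.2 x x.2.1)⟩⟩ (fun x hx => hx.1.2)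
  obtain ⟨z, hz⟩ := (Subgroup.isCyclic_iff_exists_zpowers_eq_top Z).1 hZcyc
  have hzZ : z ∈ Z := hz ▸ mem_zpowers z
  have hzne : z ≠ 1 := by
    intro h
    have hXne : X ≠ ⊥ := fun h' => ha (mem_bot.1 (h' ▸ (show a ∈ X from ⟨haP, hap⟩)))
    have hXp : IsPGroup p X := hP.to_le fun x (hx : x ∈ X) => (show x ∈ P ∧ x ^ p = 1 from hx).1
    haveI : Nontrivial X := (nontrivial_iff_ne_bot X).2 hXne
    haveI := hXp.center_nontrivial
    obtain ⟨⟨c, hc⟩, hc1⟩ := exists_ne (1 : center X)
    refine hc1 (Subtype.ext (Subtype.ext ?_))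
    show (c : L) = 1
    have hcZ : (c : L) ∈ Z := ⟨c.2, mem_centralizer_iff.2 fun x hx =>
      congrArg Subtype.val (mem_center_iff.1 hc ⟨x, hx⟩)⟩
    rwa [← hz, h, zpowers_one_eq_bot, mem_bot] at hcZ
  obtain ⟨v, hv⟩ := exists_vector_stabilizer_le hp2 hcop X z hzZ.1 (fun x hx => hx.2)
    (fun x hx y hy => hz.ge (show ⁅x, y⁆ ∈ X ⊓ centralizer (X : Set L) from mem_inf.2
      ⟨mul_mem (mul_mem (mul_mem hx hy) (inv_mem hx)) (inv_mem hy),
        mem_centralizer_iff.2 fun w hw => hcc' x hx.1 y hy.1 w hw.1⟩))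
    (fun x hx => mem_centralizer_iff.1 hzZ.2 x hx)
    (fun x hx h => hz.ge ⟨hx, mem_centralizer_iff.2 fun y hy => (h y hy).symm⟩)
    (by
      intro v hv
      by_contra hv0
      rcases hirr (fixSub Z) (fun l u hu => fun h hh => by
        have h1 : (l⁻¹ * h * l) • u = u := hu _ (by simpa using hZn.conj_mem h hh l⁻¹)
        rw [mul_smul, mul_smul, inv_smul_eq_iff] at h1
        exact h1) with hW | hW
      · refine hv0 (AddSubgroup.mem_bot.1 (hW ▸ ?_))
        rw [← hz]; exact mem_fixSub_zpowers hv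
      · exact hzne (FaithfulSMul.eq_of_smul_eq_smul fun u : V => by
          rw [one_smul]
          exact (hW ▸ AddSubgroup.mem_top u : u ∈ fixSub Z) z hzZ))
    (by
      by_contra hall
      push Not at hall
      exact ha (FaithfulSMul.eq_of_smul_eq_smul fun u : V => by
        rw [one_smul, hall u, smul_zero]))
  refine ⟨v, fun l hfix => ha ?_⟩
  have := hv (l * a * l⁻¹) (hXn.conj_mem a ⟨haP, hap⟩ l) hfix
  rwa [conj_eq_one_iff] at this

/-- A class of elements of order `p` in a normal `p`-subgroup of an irreducible group, `p` odd, avoids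
some vector stabiliser. -/
theorem avoid_aux (hp2 : p ≠ 2) (n : ℕ) :
    ∀ (V : Type w) [AddCommGroup V] [Finite V], Nat.card V ≤ n →
    ∀ (L : Type v) [Group L] [Finite L] [DistribMulAction L V], (Nat.card V).Coprime p →
    (∀ W : AddSubgroup V, (∀ l : L, ∀ v ∈ W, l • v ∈ W) → W = ⊥ ∨ W = ⊤) →
    ∀ (P : Subgroup L) [P.Normal], IsPGroup p P → ∀ a ∈ P, a ^ p = 1 → (∃ v : V, a • v ≠ v) →
      ∃ v : V, ∀ l : L, (l * a * l⁻¹) • v ≠ v := by
  induction n with
  | zero =>
    intro V _ _ hn
    have := Nat.card_pos (α := V)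
    omega
  | succ n ih =>
    intro V _ _ hn L _ _ _ hcop hirr P hPn hP a haP hap hmov
    classical
    -- pass to the image
    let ker : Subgroup L :=
      { carrier := {l | ∀ v : V, l • v = v}
        one_mem' := fun v => one_smul L v
        mul_mem' := fun hx hy v => by rw [mul_smul, hy v, hx v]
        inv_mem' := fun hx v => by rw [inv_smul_eq_iff, hx v] }
    haveI hker : ker.Normal := ⟨fun x hx g v => by
      rw [mul_smul, mul_smul, hx (g⁻¹ • v), smul_inv_smul]⟩
    letI act : DistribMulAction (L ⧸ ker) V :=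
      { smul := fun q v => Quotient.liftOn' q (fun l => l • v) fun l m h => by
          have h' : (l⁻¹ * m) • v = v := (QuotientGroup.leftRel_apply.1 h) v
          rw [mul_smul, inv_smul_eq_iff] at h'
          exact h'.symm
        one_smul := fun v => one_smul L v
        mul_smul := fun q r v => QuotientGroup.induction_on q fun l =>
          QuotientGroup.induction_on r fun m => mul_smul l m v
        smul_zero := fun q => QuotientGroup.induction_on q fun l => smul_zero l
        smul_add := fun q u v => QuotientGroup.induction_on q fun l => smul_add l u v }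
    have hsm : ∀ (l : L) (v : V), (QuotientGroup.mk l : L ⧸ ker) • v = l • v := fun l v => rfl
    suffices h : ∀ (L' : Type v) [Group L'] [Finite L'] [DistribMulAction L' V] [FaithfulSMul L' V],
        (∀ W : AddSubgroup V, (∀ l : L', ∀ v ∈ W, l • v ∈ W) → W = ⊥ ∨ W = ⊤) →
        ∀ (P' : Subgroup L') [P'.Normal], IsPGroup p P' → ∀ a' ∈ P', a' ^ p = 1 → a' ≠ 1 →
          ∃ v : V, ∀ l : L', (l * a' * l⁻¹) • v ≠ v by
      haveI : FaithfulSMul (L ⧸ ker) V := ⟨fun {q r} hqr => by
        obtain ⟨l, rfl⟩ := QuotientGroup.mk_surjective q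
        obtain ⟨m, rfl⟩ := QuotientGroup.mk_surjective r
        refine QuotientGroup.eq.2 fun v => ?_
        have h := hqr v
        rw [hsm, hsm] at h
        rw [mul_smul, inv_smul_eq_iff, h]⟩
      haveI : (P.map (QuotientGroup.mk' ker)).Normal :=
        hPn.map _ (QuotientGroup.mk'_surjective ker)
      obtain ⟨v, hv⟩ := h (L ⧸ ker)
        (fun W hW => hirr W fun l v hv => by rw [← hsm]; exact hW _ v hv)
        (P.map (QuotientGroup.mk' ker)) (hP.map _) (QuotientGroup.mk a) (mem_map_of_mem _ haP)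
        (by rw [← QuotientGroup.mk_pow, hap]; rfl)
        (fun h => hmov.elim fun v hv => hv (by rw [← hsm, h, one_smul]))
      exact ⟨v, fun l => hv (QuotientGroup.mk l)⟩
    clear hmov hap haP hP hPn P a hirr hsm act hker ker
    intro L _ _ _ _ hirr P hPn hP a haP hap ha
    by_cases hR : ∃ R : Subgroup L, R ≤ P ∧ R.Normal ∧ IsMulCommutative R ∧ (∀ x ∈ R, x ^ p = 1) ∧
        ¬ IsCyclic R
    swap
    · push Not at hR
      exact avoid_of_cyclic hp2 hcop hirr P hP hR a haP ha hap
    obtain ⟨R, hRP, hRn, hRc, hRp, hRnc⟩ := hR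
    haveI := hRc
    have hcomm : ∀ x ∈ R, ∀ y ∈ R, Commute x y := fun x hx y hy =>
      congrArg Subtype.val (mul_comm' (⟨x, hx⟩ : R) ⟨y, hy⟩)
    have hRinv : ∀ H : Subgroup L, H ≤ R → ∀ x ∈ R, ∀ v ∈ (fixSub H : AddSubgroup V),
        x • v ∈ (fixSub H : AddSubgroup V) := fun H hHR x hx v hv h hh => by
      rw [← mul_smul, (hcomm h (hHR hh) x hx).eq, mul_smul, hv h hh]
    have hfixR : (fixSub R : AddSubgroup V) = ⊥ := by
      refine (hirr (fixSub R) fun l v hv => fun h hh => ?_).resolve_right fun hW => ?_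
      · have h1 : (l⁻¹ * h * l) • v = v := hv _ (by simpa using hRn.conj_mem h hh l⁻¹)
        rw [mul_smul, mul_smul, inv_smul_eq_iff] at h1
        exact h1
      · have : R = ⊥ := (eq_bot_iff_forall R).2 fun x hx =>
          FaithfulSMul.eq_of_smul_eq_smul fun u : V => by
            rw [one_smul]; exact (hW ▸ AddSubgroup.mem_top u : u ∈ fixSub R) x hx
        exact hRnc (this ▸ inferInstance)
    obtain ⟨v₀, hv₀⟩ : ∃ v : V, v ≠ 0 := by
      by_contra h
      push Not at h
      exact ha (FaithfulSMul.eq_of_smul_eq_smul fun u : V => by rw [one_smul, h u, smul_zero])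
    obtain ⟨H₀, -, ⟨hH₀R, hH₀ne⟩, hH₀max⟩ := exists_maximal_ge_of_wellFoundedGT
      (fun K : Subgroup L => K ≤ R ∧ (fixSub K : AddSubgroup V) ≠ ⊥) ⊥
      ⟨bot_le, fun h => hv₀ (AddSubgroup.mem_bot.1 (h ▸ fun x hx => by rw [mem_bot.1 hx, one_smul]))⟩
    have hbigger : ∀ g ∈ R, g ∉ H₀ → ∀ v ∈ (fixSub H₀ : AddSubgroup V), g • v = v → v = 0 := by
      intro g hg hgH v hv hgv
      by_contra hv0
      refine hgH (hH₀max (y := H₀ ⊔ zpowers g) ⟨sup_le hH₀R (zpowers_le.2 hg), fun h => hv0 ?_⟩
        le_sup_left (mem_sup_right (mem_zpowers g)))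
      exact AddSubgroup.mem_bot.1 (h ▸ mem_fixSub_sup hv (mem_fixSub_zpowers hgv))
    -- `H₀` has index `p` in `R`
    have hgen : ∀ x ∈ R, x ∉ H₀ → H₀ ⊔ zpowers x = R := by
      intro x hx hxH
      refine le_antisymm (sup_le hH₀R (zpowers_le.2 hx)) fun y hy => ?_
      by_contra hyn
      refine hH₀ne ((AddSubgroup.eq_bot_iff_forall _).2 fun v hv => ?_)
      refine eq_zero_of_fixFree hcop (hRp x hx) (hRp y hy) (hcomm x hx y hy) (fixSub H₀)
        (hRinv H₀ hH₀R x hx) (hRinv H₀ hH₀R y hy)
        (hbigger y hy fun h => hyn (mem_sup_left h)) (fun c => ?_) hv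
      refine hbigger _ (mul_mem hx (pow_mem hy _)) fun h => ?_
      by_cases hc : c = 0
      · rw [hc, gp_zero, mul_one] at h; exact hxH h
      have hyc : gp y c ∈ H₀ ⊔ zpowers x := by
        rw [show gp y c = x⁻¹ * (x * gp y c) by group]
        exact mul_mem (inv_mem (mem_sup_right (mem_zpowers x))) (mem_sup_left h)
      have hone : gp y (c * c⁻¹) = y := by rw [mul_inv_cancel₀ hc, gp_one]
      rw [gp_mul (hRp y hy)] at hone
      exact hyn (hone ▸ pow_mem hyc _)
    set K : Subgroup L := normalizer (H₀ : Set L) with hK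
    set N := Nat.card H₀ with hN
    have hcopN : (Nat.card V).Coprime N := by
      obtain ⟨k, hk⟩ := IsPGroup.iff_card.1 (hP.to_le (hH₀R.trans hRP))
      rw [hN, hk]; exact hcop.pow_right k
    haveI : Fintype H₀ := Fintype.ofFinite H₀
    haveI : Fintype (L ⧸ K) := Fintype.ofFinite _
    -- conjugates of `H₀`
    have hHconj : ∀ (l : L) (v : V), (l • v ∈ fixSub (H₀.map (MulAut.conj l).toMonoidHom)) ↔
        v ∈ fixSub H₀ := by
      intro l v
      constructor
      · intro h x hx
        have := h _ (mem_map_of_mem _ hx)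
        rw [MulEquiv.coe_toMonoidHom, MulAut.conj_apply, mul_smul, mul_smul, inv_smul_smul] at this
        exact MulAction.injective l this
      · rintro h _ ⟨x, hx, rfl⟩
        rw [MulEquiv.coe_toMonoidHom, MulAut.conj_apply, mul_smul, mul_smul, inv_smul_smul, h x hx]
    have hKmem : ∀ k ∈ K, ∀ v ∈ (fixSub H₀ : AddSubgroup V), k • v ∈ (fixSub H₀ : AddSubgroup V) := by
      intro k hk v hv h hh
      have h1 : (k⁻¹ * h * k) • v = v := hv _ (by
        have := (mem_normalizer_iff.1 (inv_mem hk) h).1 hh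
        rwa [inv_inv] at this)
      rw [mul_smul, mul_smul, inv_smul_eq_iff] at h1
      exact h1
    set C : L ⧸ K → AddSubgroup V := fun q => fixSub (H₀.map (MulAut.conj q.out).toMonoidHom) with hC
    have hCmove : ∀ (x : L) (q : L ⧸ K) (v : V), v ∈ C q → x • v ∈ C (x • q) := by
      intro x q v hv
      obtain ⟨k, hk⟩ : ∃ k : K, (x • q).out * (k : L) = x * q.out := by
        refine ⟨⟨(x • q).out⁻¹ * (x * q.out), ?_⟩, by group⟩
        have : (QuotientGroup.mk (x • q).out : L ⧸ K) = QuotientGroup.mk (x * q.out) := by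
          rw [QuotientGroup.out_eq', ← smul_eq_mul, ← MulAction.Quotient.smul_mk, QuotientGroup.out_eq']
        exact QuotientGroup.eq.1 this
      have hv' : q.out⁻¹ • v ∈ fixSub H₀ := (hHconj q.out _).1 (by rwa [smul_inv_smul])
      have h2 := (hHconj (x • q).out _).2 (hKmem k k.2 _ hv')
      rwa [← mul_smul, hk, mul_smul, smul_inv_smul] at h2
    have hCdisj : ∀ q q' : L ⧸ K, q ≠ q' → ∀ v, v ∈ C q → v ∈ C q' → v = 0 := by
      intro q q' hne v hv hv'
      have hHR : ∀ q : L ⧸ K, H₀.map (MulAut.conj q.out).toMonoidHom ≤ R := fun q => by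
        rintro _ ⟨x, hx, rfl⟩
        exact hRn.conj_mem x (hH₀R hx) q.out
      have hneq : H₀.map (MulAut.conj q.out).toMonoidHom ≠ H₀.map (MulAut.conj q'.out).toMonoidHom := by
        intro h
        apply hne
        have h1 : q.out⁻¹ * q'.out ∈ K := ?_
        · rw [← QuotientGroup.eq, QuotientGroup.out_eq', QuotientGroup.out_eq'] at h1
          exact h1
        show q.out⁻¹ * q'.out ∈ normalizer (H₀ : Set L)
        rw [mem_normalizer_iff_map_conj_eq]
        apply map_injective (f := (MulAut.conj q.out).toMonoidHom) (MulAut.conj q.out).injective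
        show Subgroup.map (MulAut.conj q.out).toMonoidHom
          (Subgroup.map (MulAut.conj (q.out⁻¹ * q'.out)).toMonoidHom H₀) = _
        rw [map_map]
        rw [h]
        congr 1
        ext y
        simp [mul_assoc]
      -- their join is `R`
      obtain ⟨x, hx', hx⟩ : ∃ x ∈ H₀.map (MulAut.conj q'.out).toMonoidHom,
          x ∉ H₀.map (MulAut.conj q.out).toMonoidHom := by
        by_contra h
        push Not at h
        refine hneq (eq_of_le_of_card_ge h (le_of_eq ?_)).symm
        rw [card_map_of_injective (MulAut.conj q.out).injective,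
          card_map_of_injective (MulAut.conj q'.out).injective]
      set y := q.out⁻¹ * x * q.out with hy
      have hyR : y ∈ R := by simpa [hy] using hRn.conj_mem x (hHR q' hx') q.out⁻¹
      have hyH : y ∉ H₀ := fun h => hx ⟨y, h, by simp [hy, mul_assoc]⟩
      have hRle : R ≤ H₀.map (MulAut.conj q.out).toMonoidHom ⊔ H₀.map (MulAut.conj q'.out).toMonoidHom := by
        intro r hr
        have hr' : q.out⁻¹ * r * q.out ∈ H₀ ⊔ zpowers y := by
          rw [hgen y hyR hyH]; simpa using hRn.conj_mem r hr q.out⁻¹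
        have h2 : r ∈ (H₀ ⊔ zpowers y).map (MulAut.conj q.out).toMonoidHom :=
          ⟨_, hr', by simp [mul_assoc]⟩
        rw [Subgroup.map_sup, MonoidHom.map_zpowers] at h2
        refine (sup_le_sup_left (zpowers_le.2 ?_) _) h2
        simpa [hy, mul_assoc] using hx'
      exact AddSubgroup.mem_bot.1 (hfixR ▸ fixSub_anti hRle (mem_fixSub_sup hv hv'))
    -- projections
    set e : L ⧸ K → (V →+ V) := fun q =>
      ∑ h : H₀, DistribSMul.toAddMonoidHom V (q.out * (h : L) * q.out⁻¹) with he
    have he_apply : ∀ q v, e q v = ∑ h : H₀, (q.out * (h : L) * q.out⁻¹) • v := fun q v => by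
      simp [he]
    have he_same : ∀ q, ∀ v ∈ C q, e q v = N • v := by
      intro q v hv
      rw [he_apply, Finset.sum_congr rfl (fun (h : H₀) _ => show (q.out * (h : L) * q.out⁻¹) • v = v from hv _ ⟨(h : L), h.2, rfl⟩), Finset.sum_const,
        Finset.card_univ, hN, Nat.card_eq_fintype_card]
    have he_other : ∀ q q', q ≠ q' → ∀ v ∈ C q', e q v = 0 := by
      intro q q' hne v hv
      refine hCdisj q q' hne _ ?_ ?_
      · rintro _ ⟨g, hg, rfl⟩
        rw [he_apply, Finset.smul_sum]
        refine Fintype.sum_equiv (Equiv.mulLeft (⟨g, hg⟩ : H₀)) _ _ fun h => ?_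
        rw [← mul_smul]
        congr 1
        simp [mul_assoc]
      · rw [he_apply]
        refine (C q').sum_mem fun h _ => ?_
        refine hRinv _ ?_ _ (hRn.conj_mem h (hH₀R h.2) q.out) v hv
        rintro _ ⟨x, hx, rfl⟩
        exact hRn.conj_mem x (hH₀R hx) q'.out
    -- support vectors
    have hkey : ∀ (w : L ⧸ K → V), (∀ q, w q ∈ C q) → ∀ x : L,
        x • (∑ q, w q) = ∑ q, w q → ∀ q, w (x • q) = x • w q := by
      intro w hw x hfix q
      have h := congrArg (e (x • q)) hfix
      rw [Finset.smul_sum, map_sum, map_sum] at h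
      rw [Finset.sum_eq_single q, Finset.sum_eq_single (x • q)] at h
      · rw [he_same _ _ (hCmove x q _ (hw q)), he_same _ _ (hw _)] at h
        exact (nsmul_cancel hcopN h).symm
      · intro q' _ hq'
        exact he_other _ _ hq'.symm _ (hw q')
      · exact fun h => absurd (Finset.mem_univ _) h
      · intro q' _ hq'
        exact he_other _ _ (fun h => hq' (MulAction.injective x h).symm) _ (hCmove x q' _ (hw q'))
      · exact fun h => absurd (Finset.mem_univ _) h
    obtain ⟨c₀, hc₀, hc₀0⟩ : ∃ c ∈ (fixSub H₀ : AddSubgroup V), c ≠ 0 := by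
      by_contra h
      push Not at h
      exact hH₀ne ((AddSubgroup.eq_bot_iff_forall _).2 h)
    have houtC : ∀ q : L ⧸ K, ∀ v ∈ (fixSub H₀ : AddSubgroup V), q.out • v ∈ C q :=
      fun q v hv => (hHconj q.out v).2 hv
    by_cases hcore : a ∈ K.normalCore
    swap
    · obtain ⟨S, hS⟩ := exists_set_not_fixed P hP haP K.index K le_rfl hcore
      set w : L ⧸ K → V := fun q => if q ∈ S then q.out • c₀ else 0 with hw
      have hwC : ∀ q, w q ∈ C q := fun q => by
        rw [hw]; dsimp only; split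
        · exact houtC q c₀ hc₀
        · exact zero_mem _
      have hwS : ∀ q, q ∈ S ↔ w q ≠ 0 := fun q => by
        by_cases h : q ∈ S
        · simp [hw, h, smul_eq_zero_iff_eq, hc₀0]
        · simp [hw, h]
      refine ⟨∑ q, w q, fun l hfix => ?_⟩
      obtain ⟨q, hq⟩ := hS l
      exact hq (by rw [hwS, hwS, hkey w hwC _ hfix q, ne_eq, ne_eq, smul_eq_zero_iff_eq])
    -- `a` fixes every component
    have hspan : (⨆ q, C q) = (⊤ : AddSubgroup V) := by
      refine (hirr _ fun l v hv => ?_).resolve_left fun h => hc₀0 ?_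
      · refine AddSubgroup.iSup_induction C (C := fun u => l • u ∈ ⨆ q, C q) hv
          (fun q u hu => AddSubgroup.mem_iSup_of_mem (l • q) (hCmove l q u hu))
          (by rw [smul_zero]; exact zero_mem _)
          (fun u v hu hv => by rw [smul_add]; exact add_mem hu hv)
      · have h1 : (QuotientGroup.mk 1 : L ⧸ K).out • c₀ ∈ (⊥ : AddSubgroup V) := by
          rw [← h]
          exact AddSubgroup.mem_iSup_of_mem _ (houtC _ c₀ hc₀)
        exact (smul_eq_zero_iff_eq _).1 (AddSubgroup.mem_bot.1 h1)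
    obtain ⟨q₀, u, hu, hau⟩ : ∃ q₀, ∃ u ∈ C q₀, a • u ≠ u := by
      by_contra h
      push Not at h
      refine ha (FaithfulSMul.eq_of_smul_eq_smul fun v : V => ?_)
      rw [one_smul]
      refine AddSubgroup.iSup_induction C (C := fun u => a • u = u)
        (hspan ▸ AddSubgroup.mem_top v) (fun q u hu => h q u hu) (smul_zero a)
        (fun u v hu hv => by rw [smul_add, hu, hv])
    set a₀ := q₀.out⁻¹ * a * q₀.out with ha₀
    have ha₀K : a₀ ∈ K := K.normalCore_le (by
      simpa [ha₀] using (normalCore_normal K).conj_mem a hcore q₀.out⁻¹)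
    let T : AddSubgroup V := fixSub H₀
    letI actT : DistribMulAction K T :=
      { smul := fun k v => ⟨(k : L) • (v : V), hKmem k k.2 v v.2⟩
        one_smul := fun v => Subtype.ext (one_smul L (v : V))
        mul_smul := fun k m v => Subtype.ext (mul_smul (k : L) (m : L) (v : V))
        smul_zero := fun k => Subtype.ext (smul_zero (k : L))
        smul_add := fun k u v => Subtype.ext (smul_add (k : L) (u : V) (v : V)) }
    have hsmT : ∀ (k : K) (v : T), ((k • v : T) : V) = (k : L) • (v : V) := fun _ _ => rfl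
    have hcardT : Nat.card T ≤ n := by
      have hlt : Nat.card T < Nat.card V := by
        refine lt_of_le_of_ne (Nat.le_of_dvd Nat.card_pos (AddSubgroup.card_addSubgroup_dvd_card T))
          fun h => ?_
        have hT : T = ⊤ := AddSubgroup.eq_top_of_card_eq T h
        have hbot : H₀ = ⊥ := (eq_bot_iff_forall H₀).2 fun x hx =>
          FaithfulSMul.eq_of_smul_eq_smul fun u : V => by
            rw [one_smul]; exact (hT ▸ AddSubgroup.mem_top u : u ∈ T) x hx
        obtain ⟨x, hx, hx1⟩ : ∃ x ∈ R, x ≠ 1 := by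
          by_contra h
          push Not at h
          exact hRnc (((eq_bot_iff_forall R).2 h) ▸ inferInstance)
        have := hgen x hx (fun h => hx1 (mem_bot.1 (hbot ▸ h)))
        rw [hbot, bot_sup_eq] at this
        exact hRnc (this ▸ inferInstance)
      omega
    haveI : (P.subgroupOf K).Normal := hPn.subgroupOf K
    have hcopT : (Nat.card T).Coprime p :=
      hcop.coprime_dvd_left (AddSubgroup.card_addSubgroup_dvd_card T)
    have hirrT : ∀ W : AddSubgroup T, (∀ k : K, ∀ v ∈ W, k • v ∈ W) → W = ⊥ ∨ W = ⊤ := by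
      intro W hW
      by_cases hW0 : W = ⊥
      · exact Or.inl hW0
      right
      let U : AddSubgroup V := ⨆ q : L ⧸ K, (W.map T.subtype).map (DistribSMul.toAddMonoidHom V q.out)
      have hU : ∀ l : L, ∀ v ∈ U, l • v ∈ U := by
        intro l v hv
        refine AddSubgroup.iSup_induction
          (fun q : L ⧸ K => (W.map T.subtype).map (DistribSMul.toAddMonoidHom V q.out))
          (C := fun u => l • u ∈ U) hv ?_ (by rw [smul_zero]; exact zero_mem _)
          (fun u v hu hv => by rw [smul_add]; exact add_mem hu hv)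
        rintro q _ ⟨_, ⟨t, ht, rfl⟩, rfl⟩
        have hk : (l • q).out⁻¹ * (l * q.out) ∈ K := by
          have : (QuotientGroup.mk (l • q).out : L ⧸ K) = QuotientGroup.mk (l * q.out) := by
            rw [QuotientGroup.out_eq', ← smul_eq_mul, ← MulAction.Quotient.smul_mk, QuotientGroup.out_eq']
          exact QuotientGroup.eq.1 this
        refine AddSubgroup.mem_iSup_of_mem (l • q)
          ⟨_, ⟨(⟨_, hk⟩ : K) • t, hW ⟨_, hk⟩ t ht, rfl⟩, ?_⟩
        show (l • q).out • (((l • q).out⁻¹ * (l * q.out)) • (t : V)) = l • q.out • (t : V)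
        rw [← mul_smul, ← mul_smul, mul_inv_cancel_left]
      have hUtop : U = ⊤ := by
        refine (hirr U hU).resolve_left fun h => hW0 ((AddSubgroup.eq_bot_iff_forall _).2 fun t ht => ?_)
        have h1 : (QuotientGroup.mk 1 : L ⧸ K).out • (t : V) ∈ (⊥ : AddSubgroup V) := by
          rw [← h]
          exact AddSubgroup.mem_iSup_of_mem _ ⟨_, ⟨t, ht, rfl⟩, rfl⟩
        exact Subtype.ext ((smul_eq_zero_iff_eq _).1 (AddSubgroup.mem_bot.1 h1))
      refine (AddSubgroup.eq_top_iff' _).2 fun t => mem_of_nsmul_mem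
        (hcopN.coprime_dvd_left (AddSubgroup.card_addSubgroup_dvd_card T)) ?_
      set q₁ : L ⧸ K := QuotientGroup.mk 1
      have hq₁ : q₁.out ∈ K := by
        have := QuotientGroup.eq.1 (q₁.out_eq' : (QuotientGroup.mk q₁.out : L ⧸ K) = QuotientGroup.mk 1)
        simpa using inv_mem this
      have hsub : ∀ v ∈ U, e q₁ v ∈ W.map T.subtype := by
        intro v hv
        refine AddSubgroup.iSup_induction
          (fun q : L ⧸ K => (W.map T.subtype).map (DistribSMul.toAddMonoidHom V q.out))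
          (C := fun u => e q₁ u ∈ W.map T.subtype) hv ?_ (by rw [map_zero]; exact zero_mem _)
          (fun u v hu hv => by rw [map_add]; exact add_mem hu hv)
        rintro q _ ⟨_, ⟨t, ht, rfl⟩, rfl⟩
        have hmem : q.out • (t : V) ∈ C q := houtC q t t.2
        by_cases hq : q₁ = q
        · subst hq
          refine ⟨N • ((⟨_, hq₁⟩ : K) • t), W.nsmul_mem (hW ⟨_, hq₁⟩ t ht) N, ?_⟩
          exact (he_same _ _ hmem).symm
        · have h0 := he_other _ _ hq _ hmem
          exact h0.symm ▸ zero_mem _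
      obtain ⟨w', hw', he'⟩ := hsub (q₁.out • (t : V)) (hUtop ▸ AddSubgroup.mem_top _)
      rw [he_same _ _ (houtC q₁ t t.2)] at he'
      have heq : w' = N • ((⟨_, hq₁⟩ : K) • t) := Subtype.ext he'
      have h3 := hW (⟨_, hq₁⟩ : K)⁻¹ w' hw'
      rw [heq, smul_comm, inv_smul_smul] at h3
      exact h3
    obtain ⟨t₀, ht₀⟩ := ih T hcardT K hcopT hirrT (P.subgroupOf K) (IsPGroup.comap_subtype (K := K) hP)
      ⟨a₀, ha₀K⟩ (mem_subgroupOf.2 (by simpa [ha₀] using hPn.conj_mem a haP q₀.out⁻¹))
      (Subtype.ext (by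
        show a₀ ^ p = 1
        rw [ha₀, show q₀.out⁻¹ * a * q₀.out = q₀.out⁻¹ * a * q₀.out⁻¹⁻¹ by rw [inv_inv], conj_pow,
          hap]
        group))
      ⟨⟨q₀.out⁻¹ • u, (hHconj q₀.out _).1 (by rwa [smul_inv_smul])⟩, fun h => hau (by
        have h' := congrArg Subtype.val h
        rw [hsmT] at h'
        change a₀ • q₀.out⁻¹ • u = q₀.out⁻¹ • u at h'
        rw [ha₀, mul_smul, mul_smul, smul_inv_smul] at h'
        exact MulAction.injective _ h')⟩
    set w : L ⧸ K → V := fun q => q.out • (t₀ : V) with hw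
    refine ⟨∑ q, w q, fun l hfix => ?_⟩
    set x := l * a * l⁻¹ with hx
    set q : L ⧸ K := QuotientGroup.mk (l * q₀.out)
    have hxq : x • q = q := by
      show (QuotientGroup.mk (x * (l * q₀.out)) : L ⧸ K) = QuotientGroup.mk (l * q₀.out)
      refine (QuotientGroup.eq.2 ?_).symm
      rw [show (l * q₀.out)⁻¹ * (x * (l * q₀.out)) = a₀ by rw [hx, ha₀]; group]
      exact ha₀K
    have h := hkey w (fun q => houtC q _ t₀.2) x hfix q
    rw [hxq] at h
    set k := q.out⁻¹ * (l * q₀.out) with hk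
    have hkK : k ∈ K := QuotientGroup.eq.1 (q.out_eq' : (QuotientGroup.mk q.out : L ⧸ K) = q)
    apply ht₀ ⟨k, hkK⟩
    refine Subtype.ext ?_
    rw [hsmT]
    show (k * a₀ * k⁻¹) • (t₀ : V) = t₀
    rw [show k * a₀ * k⁻¹ = q.out⁻¹ * (x * q.out) by rw [hk, hx, ha₀]; group, mul_smul, mul_smul]
    rw [inv_smul_eq_iff]
    exact h.symm

/-- A class of elements of order `p` in a normal `p`-subgroup of an irreducible group avoids some
vector stabiliser. -/
theorem exists_vector_avoiding {L : Type v} {V : Type w} [Group L] [Finite L] [AddCommGroup V]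
    [Finite V] [DistribMulAction L V] (hp2 : p ≠ 2) (hcop : (Nat.card V).Coprime p)
    (hirr : ∀ W : AddSubgroup V, (∀ l : L, ∀ v ∈ W, l • v ∈ W) → W = ⊥ ∨ W = ⊤)
    (P : Subgroup L) [P.Normal] (hP : IsPGroup p P) (a : L) (haP : a ∈ P) (hap : a ^ p = 1)
    (hmov : ∃ v : V, a • v ≠ v) : ∃ v : V, ∀ l : L, (l * a * l⁻¹) • v ≠ v :=
  avoid_aux hp2 _ V le_rfl L hcop hirr P hP a haP hap hmov

end CfsgLib.SubnClass
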